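import Mathlib
import Cfsg.Agent.Ly.Index
import Cfsg.Agent.Ly.CardDvd
import Cfsg.Agent.Ly.Simple
import Cfsg.Agent.Ly.Final
set_option linter.all false

-- part: R10/Heis
section
/-!
# Calculus in an extraspecial group `5^{1+4}` given by generators

`Heis G`: elements `c 0 … c 3, z` of order dividing 5, `z` central, with given commutators.
`N v m`: normal form, `N_mul`: product formula; `R v x`: `x` is in the coset `v` modulo `⟨z⟩`.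
-/

set_option autoImplicit false

namespace Cfsg.Agent.R10.Heis

/-- vectors -/
abbrev V : Type := Fin 4 → ZMod 5

section pw

variable {G : Type*} [Group G]

/-- power with exponent modulo 5 -/
def pw (g : G) (k : ZMod 5) : G := g ^ k.val

theorem pw_natCast {g : G} (hg : g ^ 5 = 1) (n : ℕ) : pw g (n : ZMod 5) = g ^ n := by
  rw [pw, ZMod.val_natCast, ← pow_eq_pow_mod n hg]

theorem pw_add {g : G} (hg : g ^ 5 = 1) (a b : ZMod 5) : pw g (a + b) = pw g a * pw g b := by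
  have h : a + b = ((a.val + b.val : ℕ) : ZMod 5) := by
    push_cast; rw [ZMod.natCast_zmod_val, ZMod.natCast_zmod_val]
  rw [h, pw_natCast hg, pow_add]; rfl

theorem pw_zero (g : G) : pw g 0 = 1 := by simp [pw]

theorem pw_one (g : G) : pw g 1 = g := by
  have : (1 : ZMod 5).val = 1 := rfl
  rw [pw, this, pow_one]

theorem pow_comm_aux {p q z : G} (hp : Commute z p) (hq : Commute z q) {k : ℕ} (h : p * q = q * p * z ^ k)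
    (a b : ℕ) : p ^ a * q ^ b = q ^ b * p ^ a * z ^ (k * a * b) := by
  have h1 : ∀ b : ℕ, p * q ^ b = q ^ b * p * z ^ (k * b) := by
    intro b
    induction b with
    | zero => simp
    | succ b ih =>
      have e : z ^ (k * b) * q = q * z ^ (k * b) := (hq.pow_left _).eq
      rw [pow_succ, ← mul_assoc, ih, mul_assoc (q ^ b * p), e, ← mul_assoc, mul_assoc (q ^ b) p, h, Nat.mul_succ,
        pow_add]
      simp only [mul_assoc]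
      rw [← pow_add, ← pow_add, Nat.add_comm]
  induction a with
  | zero => simp
  | succ a ih =>
    have e : z ^ (k * a * b) * p = p * z ^ (k * a * b) := (hp.pow_left _).eq
    rw [pow_succ, mul_assoc, h1, ← mul_assoc, ← mul_assoc, ih, mul_assoc (q ^ b * p ^ a), e]
    simp only [mul_assoc]
    rw [← pow_add]
    congr 4
    ring

theorem pw_comm {p q z : G} (hz5 : z ^ 5 = 1) (hp : Commute z p) (hq : Commute z q) {k : ℕ}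
    (h : p * q = q * p * z ^ k) (a b : ZMod 5) : pw p a * pw q b = pw q b * (pw p a * pw z (k * a * b)) := by
  have e : (k : ZMod 5) * a * b = ((k * a.val * b.val : ℕ) : ZMod 5) := by
    push_cast; rw [ZMod.natCast_zmod_val, ZMod.natCast_zmod_val]
  rw [e, pw_natCast hz5, ← mul_assoc]
  exact pow_comm_aux hp hq h _ _

theorem commute_pw {p q : G} (h : Commute p q) (a b : ZMod 5) : Commute (pw p a) (pw q b) := h.pow_pow _ _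

end pw

/-- A group with five elements satisfying the relations of `5^{1+4}`. -/
structure Data (G : Type*) [Group G] where
  /-- generators -/
  c : Fin 4 → G
  /-- the central generator -/
  z : G
  c5 : ∀ i, c i ^ 5 = 1
  z5 : z ^ 5 = 1
  zc : ∀ i, z * c i = c i * z
  h01 : c 1 * c 0 = c 0 * c 1 * z ^ 4
  h02 : c 2 * c 0 = c 0 * c 2 * z ^ 2
  h03 : c 3 * c 0 = c 0 * c 3 * z ^ 3
  h12 : c 2 * c 1 = c 1 * c 2 * z ^ 1
  h13 : c 3 * c 1 = c 1 * c 3 * z ^ 0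
  h23 : c 3 * c 2 = c 2 * c 3 * z ^ 1

/-- the cocycle -/
def β (v w : V) : ZMod 5 := w 0 * (4 * v 1 + 2 * v 2 + 3 * v 3) + w 1 * v 2 + w 2 * v 3

namespace Data

variable {G : Type*} [Group G] (H : Data G)

/-- normal form -/
def N (v : V) (m : ZMod 5) : G :=
  pw (H.c 0) (v 0) * (pw (H.c 1) (v 1) * (pw (H.c 2) (v 2) * (pw (H.c 3) (v 3) * pw H.z m)))

theorem zmove (i : Fin 4) (m a : ZMod 5) : pw H.z m * pw (H.c i) a = pw (H.c i) a * pw H.z m :=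
  (commute_pw (H.zc i) m a).eq

theorem zmove' (i : Fin 4) (m a : ZMod 5) (r : G) :
    pw H.z m * (pw (H.c i) a * r) = pw (H.c i) a * (pw H.z m * r) := by
  rw [← mul_assoc, zmove, mul_assoc]

theorem s01 (a b : ZMod 5) : pw (H.c 1) a * pw (H.c 0) b = pw (H.c 0) b * (pw (H.c 1) a * pw H.z (4 * a * b)) := by
  have := pw_comm H.z5 (H.zc 1) (H.zc 0) H.h01 a b
  exact_mod_cast this

theorem s02 (a b : ZMod 5) : pw (H.c 2) a * pw (H.c 0) b = pw (H.c 0) b * (pw (H.c 2) a * pw H.z (2 * a * b)) := by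
  have := pw_comm H.z5 (H.zc 2) (H.zc 0) H.h02 a b
  exact_mod_cast this

theorem s03 (a b : ZMod 5) : pw (H.c 3) a * pw (H.c 0) b = pw (H.c 0) b * (pw (H.c 3) a * pw H.z (3 * a * b)) := by
  have := pw_comm H.z5 (H.zc 3) (H.zc 0) H.h03 a b
  exact_mod_cast this

theorem s12 (a b : ZMod 5) : pw (H.c 2) a * pw (H.c 1) b = pw (H.c 1) b * (pw (H.c 2) a * pw H.z (a * b)) := by
  have := pw_comm H.z5 (H.zc 2) (H.zc 1) H.h12 a b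
  rw [Nat.cast_one, one_mul] at this
  exact this

theorem s13 (a b : ZMod 5) : pw (H.c 3) a * pw (H.c 1) b = pw (H.c 1) b * pw (H.c 3) a := by
  have := pw_comm H.z5 (H.zc 3) (H.zc 1) H.h13 a b
  rw [Nat.cast_zero, zero_mul, zero_mul, pw_zero, mul_one] at this
  exact this

theorem s23 (a b : ZMod 5) : pw (H.c 3) a * pw (H.c 2) b = pw (H.c 2) b * (pw (H.c 3) a * pw H.z (a * b)) := by
  have := pw_comm H.z5 (H.zc 3) (H.zc 2) H.h23 a b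
  rw [Nat.cast_one, one_mul] at this
  exact this

theorem s01' (a b : ZMod 5) (r : G) : pw (H.c 1) a * (pw (H.c 0) b * r) =
    pw (H.c 0) b * (pw (H.c 1) a * (pw H.z (4 * a * b) * r)) := by
  rw [← mul_assoc, s01]; simp only [mul_assoc]

theorem s02' (a b : ZMod 5) (r : G) : pw (H.c 2) a * (pw (H.c 0) b * r) =
    pw (H.c 0) b * (pw (H.c 2) a * (pw H.z (2 * a * b) * r)) := by
  rw [← mul_assoc, s02]; simp only [mul_assoc]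

theorem s03' (a b : ZMod 5) (r : G) : pw (H.c 3) a * (pw (H.c 0) b * r) =
    pw (H.c 0) b * (pw (H.c 3) a * (pw H.z (3 * a * b) * r)) := by
  rw [← mul_assoc, s03]; simp only [mul_assoc]

theorem s12' (a b : ZMod 5) (r : G) : pw (H.c 2) a * (pw (H.c 1) b * r) =
    pw (H.c 1) b * (pw (H.c 2) a * (pw H.z (a * b) * r)) := by
  rw [← mul_assoc, s12]; simp only [mul_assoc]

theorem s13' (a b : ZMod 5) (r : G) : pw (H.c 3) a * (pw (H.c 1) b * r) = pw (H.c 1) b * (pw (H.c 3) a * r) := by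
  rw [← mul_assoc, s13]; simp only [mul_assoc]

theorem s23' (a b : ZMod 5) (r : G) : pw (H.c 3) a * (pw (H.c 2) b * r) =
    pw (H.c 2) b * (pw (H.c 3) a * (pw H.z (a * b) * r)) := by
  rw [← mul_assoc, s23]; simp only [mul_assoc]

theorem cc (i : Fin 4) (a b : ZMod 5) (r : G) : pw (H.c i) a * (pw (H.c i) b * r) = pw (H.c i) (a + b) * r := by
  rw [pw_add (H.c5 i), mul_assoc]

theorem zz (a b : ZMod 5) : pw H.z a * pw H.z b = pw H.z (a + b) := by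
  rw [pw_add H.z5]

theorem zz' (a b : ZMod 5) (r : G) : pw H.z a * (pw H.z b * r) = pw H.z (a + b) * r := by
  rw [pw_add H.z5, mul_assoc]

theorem N_mul (v w : V) (m n : ZMod 5) : H.N v m * H.N w n = H.N (v + w) (m + n + β v w) := by
  unfold N
  simp only [mul_assoc, zmove', s01', s02', s03', s12', s13', s23']
  simp only [cc, zz]
  simp only [Pi.add_apply]
  refine congrArg (fun t => pw (H.c 0) (v 0 + w 0) * (pw (H.c 1) (v 1 + w 1) * (pw (H.c 2) (v 2 + w 2) *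
    (pw (H.c 3) (v 3 + w 3) * pw H.z t)))) ?_
  unfold β
  ring

theorem N_zero (m : ZMod 5) : H.N 0 m = pw H.z m := by
  simp [N, pw_zero]

theorem N_zero_zero : H.N 0 0 = 1 := by rw [N_zero, pw_zero]

/-- the coset of `v` modulo `⟨z⟩` -/
def R (v : V) (x : G) : Prop := ∃ m, x = H.N v m

variable {H}

theorem R.one : H.R 0 1 := ⟨0, H.N_zero_zero.symm⟩

theorem R.N (v : V) (m : ZMod 5) : H.R v (H.N v m) := ⟨m, rfl⟩

theorem R.mul {v w : V} {x y : G} (hx : H.R v x) (hy : H.R w y) : H.R (v + w) (x * y) := by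
  obtain ⟨m, rfl⟩ := hx
  obtain ⟨n, rfl⟩ := hy
  exact ⟨_, H.N_mul v w m n⟩

theorem R.pow {v : V} {x : G} (hx : H.R v x) (n : ℕ) : H.R (n • v) (x ^ n) := by
  induction n with
  | zero => rw [zero_smul, pow_zero]; exact R.one
  | succ n ih => rw [succ_nsmul, pow_succ]; exact ih.mul hx

theorem R.pw {v : V} {x : G} (hx : H.R v x) (k : ZMod 5) : H.R (k • v) (pw x k) := by
  have h := hx.pow k.val
  rwa [← Nat.cast_smul_eq_nsmul (ZMod 5), ZMod.natCast_zmod_val] at h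

theorem R.inv {v : V} {x : G} (hx : H.R v x) : H.R (-v) x⁻¹ := by
  obtain ⟨m, rfl⟩ := hx
  refine ⟨-m - β v (-v), ?_⟩
  rw [inv_eq_iff_mul_eq_one, N_mul, add_neg_cancel]
  have : m + (-m - β v (-v)) + β v (-v) = 0 := by ring
  rw [this, N_zero_zero]

theorem R.c (i : Fin 4) : H.R (Pi.single i 1) (H.c i) := by
  refine ⟨0, ?_⟩
  unfold Data.N
  fin_cases i <;> simp [pw_zero, pw_one]

theorem R.z (k : ℕ) : H.R 0 (H.z ^ k) := ⟨k, by rw [N_zero, pw_natCast H.z5]⟩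

/-- the action of a matrix, given by rows, on row vectors -/
def act (M : Fin 4 → V) (v : V) : V := v 0 • M 0 + (v 1 • M 1 + (v 2 • M 2 + v 3 • M 3))

/-- conjugation by an element acting as the matrix `M` -/
theorem R.conj {M : Fin 4 → V} {g : G} (hM : ∀ i, H.R (M i) (g⁻¹ * H.c i * g)) {k : ℕ}
    (hz : g⁻¹ * H.z * g = H.z ^ k) {v : V} {x : G} (hx : H.R v x) : H.R (act M v) (g⁻¹ * x * g) := by
  obtain ⟨m, rfl⟩ := hx
  have hpw : ∀ (y : G) (k : ZMod 5), g⁻¹ * Heis.pw y k * g = Heis.pw (g⁻¹ * y * g) k := by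
    intro y k
    have := conj_pow (a := g⁻¹) (b := y) (i := k.val)
    rw [inv_inv] at this
    exact this.symm
  have e : g⁻¹ * H.N v m * g = (g⁻¹ * Heis.pw (H.c 0) (v 0) * g) * ((g⁻¹ * Heis.pw (H.c 1) (v 1) * g) *
      ((g⁻¹ * Heis.pw (H.c 2) (v 2) * g) * ((g⁻¹ * Heis.pw (H.c 3) (v 3) * g) * (g⁻¹ * Heis.pw H.z m * g)))) := by
    unfold Data.N
    group
  rw [e, hpw, hpw, hpw, hpw, hpw, hz]
  have h0 : H.R 0 (Heis.pw (H.z ^ k) m) := by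
    have := (R.z (H := H) k).pw m
    rwa [smul_zero] at this
  have h := ((hM 0).pw (v 0)).mul (((hM 1).pw (v 1)).mul (((hM 2).pw (v 2)).mul (((hM 3).pw (v 3)).mul h0)))
  rw [add_zero] at h
  exact h

theorem num10 : (10 : ZMod 5) = 0 := by decide

theorem num11 : (11 : ZMod 5) = 1 := by decide

theorem num14 : (-14 : ZMod 5) = 1 := by decide

theorem ω_ne {v : V} (hv : v ≠ 0) : ∃ w : V, β v w - β w v = 1 := by
  have hp : Fact (Nat.Prime 5) := ⟨by norm_num⟩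
  by_cases h0 : v 0 = 0
  · by_cases h2 : v 2 = 0
    · by_cases h1 : v 1 = 0
      · have h3 : v 3 ≠ 0 := by
          intro h3
          apply hv
          funext i
          fin_cases i <;> assumption
        refine ⟨![0, 0, (v 3)⁻¹, 0], ?_⟩
        have e : β v ![0, 0, (v 3)⁻¹, 0] - β ![0, 0, (v 3)⁻¹, 0] v = v 3 * (v 3)⁻¹ := by
          simp only [β, Matrix.cons_val, h0, h1, h2]; ring
        rw [e, mul_inv_cancel₀ h3]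
      · refine ⟨![3 * (v 1)⁻¹, 0, (v 1)⁻¹, 0], ?_⟩
        have e : β v ![3 * (v 1)⁻¹, 0, (v 1)⁻¹, 0] - β ![3 * (v 1)⁻¹, 0, (v 1)⁻¹, 0] v =
            11 * (v 1 * (v 1)⁻¹) + 10 * (v 3 * (v 1)⁻¹) := by
          simp only [β, Matrix.cons_val, h0, h2]; ring
        rw [e, mul_inv_cancel₀ h1, num10, num11, zero_mul, add_zero, mul_one]
    · refine ⟨![0, -(v 2)⁻¹, 0, -(2 * (v 2)⁻¹)], ?_⟩
      have e : β v ![0, -(v 2)⁻¹, 0, -(2 * (v 2)⁻¹)] - β ![0, -(v 2)⁻¹, 0, -(2 * (v 2)⁻¹)] v =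
          1 * (v 2 * (v 2)⁻¹) := by
        simp only [β, Matrix.cons_val, h0]; ring
      rw [e, mul_inv_cancel₀ h2, mul_one]
  · refine ⟨![0, 2 * (v 0)⁻¹, 0, 2 * (v 0)⁻¹], ?_⟩
    have e : β v ![0, 2 * (v 0)⁻¹, 0, 2 * (v 0)⁻¹] - β ![0, 2 * (v 0)⁻¹, 0, 2 * (v 0)⁻¹] v =
        (-14) * (v 0 * (v 0)⁻¹) := by
      simp only [β, Matrix.cons_val]; ring
    rw [e, mul_inv_cancel₀ h0, num14, mul_one]

/-- All the elements of a coset `v ≠ 0` are conjugate. -/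
theorem conj_of_ne {v : V} (hv : v ≠ 0) (m m' : ZMod 5) : ∃ y : G, y⁻¹ * H.N v m * y = H.N v m' := by
  obtain ⟨w, hw⟩ := ω_ne hv
  refine ⟨H.N ((m' - m) • w) 0, ?_⟩
  rw [mul_assoc, inv_mul_eq_iff_eq_mul, N_mul, N_mul, add_comm ((m' - m) • w) v]
  congr 1
  have e1 : β v ((m' - m) • w) = (m' - m) * β v w := by simp only [β, Pi.smul_apply, smul_eq_mul]; ring
  have e2 : β ((m' - m) • w) v = (m' - m) * β w v := by simp only [β, Pi.smul_apply, smul_eq_mul]; ring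
  rw [e1, e2]
  linear_combination (m' - m) * hw

end Data

end Cfsg.Agent.R10.Heis
end

-- part: R10/FiveCalc
section
/-!
# Elements of order 5 of the Sylow 5-subgroup of the Lyons group commute with involutions

`x : Fin 5 → G` are elements satisfying the relations of the Lyons group (and the equalities of words of `G₂(5)`).
`good_of_Q`: every element of order 5 of the group `U = ⟨c₁, c₂, c₃, c₄, c₅, b⟩` commutes with a conjugate of `a ^ 4`.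
-/

set_option autoImplicit false

namespace Cfsg.Agent.R10.FiveCalc

open Cfsg.Agent.Ly.Mat7 Cfsg.Agent.Ly.Walk Cfsg.Agent.Ly.WalkData Cfsg.Agent.Ly.Pres Cfsg.Agent.Ly.WalkCtx
open Cfsg.Agent.R10.Heis Cfsg.Agent.R10.Heis.Data

/-- the words of c1, c2, c3, c4 -/
def cw : Fin 4 → List ℕ
  | 0 => [2]
  | 1 => [4, 2, 0]
  | 2 => [5, 2, 1]
  | 3 => [1, 2, 5]

/-- the word of c5 -/
def zw : List ℕ := [6, 4, 6, 0, 2, 4, 2, 0]

/-- the word of e -/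
def ew : List ℕ := [5, 5, 4, 6, 0, 2, 4, 2, 0, 3, 2, 1, 0, 5, 3, 2, 3]

/-- repeated word -/
def rep (w : List ℕ) : ℕ → List ℕ
  | 0 => []
  | n + 1 => w ++ rep w n

/-- word of a normal form -/
def nw (a b c d m : ℕ) : List ℕ :=
  rep (cw 0) a ++ (rep (cw 1) b ++ (rep (cw 2) c ++ (rep (cw 3) d ++ rep zw m)))

/-- a vector from natural numbers -/
def toV (v : ℕ × ℕ × ℕ × ℕ) : V := ![(v.1 : ZMod 5), (v.2.1 : ZMod 5), (v.2.2.1 : ZMod 5), (v.2.2.2 : ZMod 5)]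

/-! ### Kernel checks in `G₂(5)` -/

theorem k_c5 : ∀ i, eqW (rep (cw i) 5) [] = true := by decide +kernel

theorem k_z5 : eqW (rep zw 5) [] = true := by decide +kernel

theorem k_zc : ∀ i, eqW (zw ++ cw i) (cw i ++ zw) = true := by decide +kernel

theorem k01 : eqW (cw 1 ++ cw 0) (cw 0 ++ (cw 1 ++ rep zw 4)) = true := by decide +kernel

theorem k02 : eqW (cw 2 ++ cw 0) (cw 0 ++ (cw 2 ++ rep zw 2)) = true := by decide +kernel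

theorem k03 : eqW (cw 3 ++ cw 0) (cw 0 ++ (cw 3 ++ rep zw 3)) = true := by decide +kernel

theorem k12 : eqW (cw 2 ++ cw 1) (cw 1 ++ (cw 2 ++ rep zw 1)) = true := by decide +kernel

theorem k13 : eqW (cw 3 ++ cw 1) (cw 1 ++ (cw 3 ++ rep zw 0)) = true := by decide +kernel

theorem k23 : eqW (cw 3 ++ cw 2) (cw 2 ++ (cw 3 ++ rep zw 1)) = true := by decide +kernel

/-- rows of the action of `a`, `b`, `z` and `b⁻¹` with the exponents of `c5` -/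
def rows : ℕ → Fin 4 → ℕ × ℕ × ℕ × ℕ × ℕ
  | 0, 0 => (0, 1, 0, 0, 0)
  | 0, 1 => (3, 0, 0, 0, 0)
  | 0, 2 => (1, 0, 3, 1, 1)
  | 0, 3 => (2, 4, 4, 2, 2)
  | 1, 0 => (0, 0, 1, 0, 0)
  | 1, 1 => (4, 1, 1, 3, 2)
  | 1, 2 => (2, 0, 3, 1, 3)
  | 1, 3 => (1, 0, 0, 0, 0)
  | 2, 0 => (2, 0, 4, 4, 3)
  | 2, 1 => (3, 2, 2, 3, 4)
  | 2, 2 => (0, 1, 0, 2, 0)
  | 2, 3 => (1, 4, 3, 1, 0)
  | _, 0 => (0, 0, 0, 1, 0)
  | _, 1 => (3, 1, 2, 2, 4)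
  | _, 2 => (1, 0, 0, 0, 0)
  | _, 3 => (2, 0, 1, 3, 0)

/-- the word of a row -/
def rw' (r : ℕ × ℕ × ℕ × ℕ × ℕ) : List ℕ := nw r.1 r.2.1 r.2.2.1 r.2.2.2.1 r.2.2.2.2

/-- the vector of a row -/
def rv (r : ℕ × ℕ × ℕ × ℕ × ℕ) : V := toV (r.1, r.2.1, r.2.2.1, r.2.2.2.1)

theorem k_A : ∀ i, eqW ([4] ++ (cw i ++ [0])) (rw' (rows 0 i)) = true := by decide +kernel

theorem k_B : ∀ i, eqW ([5] ++ (cw i ++ [1])) (rw' (rows 1 i)) = true := by decide +kernel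

theorem k_Z : ∀ i : Fin 4, eqW (nth tS (2 * i)) (rw' (rows 2 i)) = true := by decide +kernel

theorem k_Zz : eqW (nth tS 8) (rep zw 2) = true := by decide +kernel

theorem k_K : ∀ i : Fin 4, nth tK (2 * i) = cw i := by decide

theorem k_Kz : nth tK 8 = zw := by decide

theorem k_Bi : ∀ i, eqW ([1] ++ (cw i ++ [5])) (rw' (rows 3 i)) = true := by decide +kernel

theorem k_Az : eqW ([4] ++ (zw ++ [0])) (rep zw 2) = true := by decide +kernel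

theorem k_Bz : eqW ([5] ++ (zw ++ [1])) (rep zw 1) = true := by decide +kernel

theorem k_Biz : eqW ([1] ++ (zw ++ [5])) (rep zw 1) = true := by decide +kernel

theorem k_b5 : eqW (rep [1] 5) [] = true := by decide +kernel

theorem k_eb : eqW (invW ew ++ ([1] ++ ew)) (nw 1 0 4 3 0) = true := by decide +kernel

theorem k_ez : eqW (invW ew ++ (zw ++ ew)) (nw 2 0 4 4 3) = true := by decide +kernel

theorem k_tz : eqW ([0, 0, 0, 0] ++ zw) (zw ++ [0, 0, 0, 0]) = true := by decide +kernel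

/-- a conjugate of `a ^ 4` -/
def tw' (g : List ℕ) : List ℕ := invW g ++ ([0, 0, 0, 0] ++ g)

theorem k_base0 : eqW (tw' [2, 0, 3, 5, 2, 3] ++ nw 0 1 1 0 4) (nw 0 1 1 0 4 ++ tw' [2, 0, 3, 5, 2, 3]) = true := by
  decide +kernel

theorem k_base1 : eqW (tw' [2, 4, 1, 2, 3] ++ nw 1 3 3 4 1) (nw 1 3 3 4 1 ++ tw' [2, 4, 1, 2, 3]) = true := by
  decide +kernel

theorem k_p1' : eqW (rep (rep (cw 1) 1 ++ [1]) 5) zw = true := by decide +kernel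

theorem k_p2 : eqW (rep (rep (cw 1) 2 ++ [1]) 5) (rep zw 4) = true := by decide +kernel

theorem k_p3 : eqW (rep (rep (cw 1) 3 ++ [1]) 5) (rep zw 4) = true := by decide +kernel

theorem k_p4 : eqW (rep (rep (cw 1) 4 ++ [1]) 5) zw = true := by decide +kernel

/-! ### The paths -/

/-- one step: the action of `a`, `b`, `z` or doubling -/
def step : ℕ → ℕ × ℕ × ℕ × ℕ → ℕ × ℕ × ℕ × ℕ
  | 0, (a, b, c, d) => ((3 * b + c + 2 * d) % 5, (a + 4 * d) % 5, (3 * c + 4 * d) % 5, (c + 2 * d) % 5)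
  | 1, (a, b, c, d) => ((4 * b + 2 * c + d) % 5, b % 5, (a + b + 3 * c) % 5, (3 * b + c) % 5)
  | 2, (a, b, c, d) => ((2 * a + 3 * b + d) % 5, (2 * b + c + 4 * d) % 5, (4 * a + 2 * b + 3 * d) % 5,
      (4 * a + 3 * b + 2 * c + d) % 5)
  | _, (a, b, c, d) => ((2 * a) % 5, (2 * b) % 5, (2 * c) % 5, (2 * d) % 5)

/-- a path -/
def run : List ℕ → ℕ × ℕ × ℕ × ℕ → ℕ × ℕ × ℕ × ℕ
  | [], v => v
  | k :: p, v => run p (step k v)

/-- the two base vectors -/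
def base' : ℕ → ℕ × ℕ × ℕ × ℕ
  | 0 => (0, 1, 1, 0)
  | _ => (1, 3, 3, 4)

/-- digits -/
def dec (n : ℕ) : ℕ × ℕ × ℕ × ℕ := (n / 125, n / 25 % 5, n / 5 % 5, n % 5)

/-- for the vector with number `n` the base vector and the path leading to it -/
def tbl : List (ℕ × List ℕ) := [
  (0, []), (1, [2, 1, 0, 1, 1, 1]), (1, [2, 1, 1, 1, 0, 2]), (1, [2, 1, 1, 1, 2, 0]), (1, [0, 2, 1, 0, 1, 1, 0]),
  (1, [2, 1, 0]), (0, [0, 1, 2, 0, 1, 1, 3]), (0, [0, 1, 1, 1, 1]), (0, [0, 0, 0, 1, 1, 1]), (1, [0, 0, 2]),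
  (1, [2, 1, 0, 3]), (0, [0, 1, 1, 1]), (0, [0, 1, 0, 2, 1, 1]), (1, [2]), (0, [0, 1, 1, 1, 1, 3]),
  (1, [0, 0, 2, 1, 0]), (0, [0, 0, 0, 1, 1, 1, 1]), (1, [0, 1, 2]), (0, [0, 1, 2, 0, 1, 1]), (0, [0, 1, 1, 1, 3, 3]),
  (1, [1, 0, 2, 1]), (1, [2, 3]), (0, [0, 1, 1, 1, 3]), (0, [0, 1, 1, 1, 1, 3, 3]), (0, [0, 1, 0, 2, 1, 1, 3]),
  (1, [0, 0, 1, 2]), (1, [0, 2, 1, 1, 1, 3]), (1, [2, 1, 0, 2]), (1, [0, 0, 0]), (1, [0, 2, 1, 2, 1]),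
  (0, []), (0, [0, 1, 1, 1, 2, 1]), (0, [2, 0, 1, 0, 1, 1, 1]), (1, [0, 2, 1, 1, 1, 1, 3]), (0, [0, 1, 1, 2, 1, 1, 2]),
  (0, [0, 0, 1, 0, 1, 0, 1]), (0, [1, 0, 1, 2, 1, 1, 2]), (0, [0, 0, 1, 0, 1, 0]), (0, [0, 1, 1, 1, 0, 1, 3, 3]), (0, [1, 0, 1, 0, 1, 1, 0]),
  (1, [0, 2, 1, 1, 3]), (0, [0, 0, 1, 0, 1, 1, 0, 1]), (0, [1, 0, 1, 2, 1, 1, 1, 1]), (0, [1, 0, 1, 2, 1]), (1, [1, 1, 3]),
  (0, [1, 0, 1, 1, 2, 1, 3]), (0, [0, 0, 1, 0]), (0, [1, 0, 1, 2, 0]), (0, [1, 0, 1, 2, 1, 1, 1]), (0, [0, 1, 1, 1, 0, 1, 1, 2]),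
  (1, [1, 2]), (1, [0]), (1, [2, 0, 1, 1, 1]), (1, [0, 2, 1, 0, 1]), (1, [1, 2, 1, 0]),
  (1, [2, 0, 1, 1]), (0, [1, 0, 1, 2, 1, 3]), (0, [1, 0, 1, 1, 0, 1]), (1, [0, 1, 1, 1]), (0, [1, 1, 1, 0, 1, 1, 2]),
  (0, [3]), (1, [0, 2, 1, 1, 1, 0]), (0, [0, 1, 1, 1, 2, 1, 3]), (0, [0, 1, 1, 0, 1, 1, 2]), (0, [1, 1, 1, 0, 1, 1]),
  (0, [1, 0, 1, 1, 2, 1, 3, 3]), (0, [1, 1, 1, 1, 0, 2]), (0, [1, 0]), (0, [0, 1, 1, 0, 1, 1, 2, 1]), (0, [1, 0, 1, 2, 0, 3]),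
  (0, [1, 0, 1, 0, 1]), (0, [0, 0, 0, 1, 1, 1, 0, 1]), (0, [0, 1, 2, 1, 1, 2, 1]), (0, [0, 1, 1, 0, 1, 1, 0, 1]), (0, [1, 0, 1, 0]),
  (1, [0, 1, 1, 2]), (1, [1, 1, 2, 1]), (1, [2, 0, 1, 0, 1]), (1, [0, 2, 1, 1, 1]), (1, [0, 1, 0]),
  (0, [0, 1, 1, 1, 1, 0]), (0, [1, 0, 1, 0, 3, 3]), (0, [1, 0, 2, 1, 0, 1, 1, 3]), (0, [1, 0, 2, 1, 2, 1, 1]), (0, [0, 1, 1, 1, 0, 1, 3]),
  (0, [1, 0, 1, 1, 2, 1]), (0, [1, 0, 1, 0, 2, 3]), (0, [1, 1, 1, 2, 1, 1, 1, 3]), (0, [1, 0, 3, 3]), (0, [1, 1, 1, 1, 2, 0]),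
  (0, [0, 0]), (0, [0, 1, 0, 1, 1, 2, 1, 3]), (0, [1, 1, 1, 2, 1, 1, 3]), (0, [1, 0, 1, 0, 2, 1, 0]), (1, [0, 2, 1, 1, 1, 1]),
  (1, [0, 2, 1, 1]), (0, [1, 1, 1, 1, 2, 0, 1]), (1, [1, 1]), (0, [1, 0, 1, 1, 0, 1, 3, 3]), (0, [0, 0, 1, 0, 1, 2, 1]),
  (1, [1, 2, 3]), (1, [2, 0, 1, 2, 1]), (1, [0, 3]), (1, [2, 1, 2, 0]), (1, [2, 0, 1, 1, 1, 3]),
  (0, [0, 0, 1, 0, 1, 1, 2, 1]), (0, [1, 1, 1, 2, 1, 1, 1]), (0, [1, 1, 0, 1, 1, 2]), (0, [1, 0, 1, 0, 2]), (0, [1, 0, 3]),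
  (1, [2, 0, 1, 1, 3]), (1, [0, 0, 1, 1]), (0, [1, 0, 1, 2, 1, 3, 3]), (0, [1, 1, 0, 1, 1, 2, 1]), (0, [1, 0, 1, 1, 0, 1, 3]),
  (0, [1, 0, 1, 0, 1, 3]), (0, [1, 0, 2, 1, 0, 1, 1]), (0, [0, 1, 1, 1, 0, 1]), (0, [1, 0, 1, 0, 3]), (0, [1, 1, 0, 2, 1, 2, 1]),
  (0, [3, 3]), (0, [1, 1, 1, 2, 1, 1]), (1, [2, 1, 1, 1, 1, 2]), (0, [0, 1, 0, 1, 1, 2, 1]), (0, [1, 1, 1, 2, 0, 1, 1]),
  (1, [1, 2, 0]), (0, [1, 1, 0, 2, 1]), (0, [1, 2, 0, 1, 1, 1]), (0, [1, 0, 2, 3]), (1, [0, 1, 2, 1, 1]),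
  (0, [1, 1, 0, 2, 1, 1]), (0, [0, 0, 0, 1, 2]), (0, [0, 1, 0, 2, 1, 1, 1]), (1, [2, 1, 1, 1, 1, 3]), (0, [1, 0, 1, 1, 0, 2, 3]),
  (0, [1, 2, 0, 1]), (0, [0, 1, 0, 2, 1]), (1, [1, 0]), (0, [0, 1, 2, 1, 1, 1, 1]), (0, [0, 3, 3]),
  (0, [1, 1, 1, 0, 1, 0]), (1, [0, 0, 2, 1]), (0, [0, 1, 2, 1]), (0, [1, 0, 2, 1, 1]), (1, [2, 0, 1, 1, 2, 1]),
  (1, [2, 1, 1, 1]), (0, [0, 1, 2, 0]), (0, [0, 1, 1, 2, 0]), (1, [2, 0, 1, 1, 2]), (0, [0, 0, 0, 1]),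
  (0, [1, 0, 1, 0, 1, 1, 1, 0]), (0, [0, 1, 1, 1, 0, 3, 3]), (0, [0, 1, 1, 1, 2, 1, 1, 1]), (0, [2, 1, 1, 1, 3]), (0, [0, 1, 0, 1, 1, 1, 0]),
  (0, [0, 2, 1, 1, 1, 0, 1]), (0, [1, 0, 1, 0, 1, 1, 2, 3]), (0, [2, 0, 1, 0]), (1, [2, 1, 0, 2, 1]), (1, [0, 2, 1, 2]),
  (0, [1, 1, 1, 0, 1, 1, 0]), (0, [0, 0, 1, 0, 1, 1, 1]), (1, [0, 2, 1, 3]), (0, [1, 1, 1, 0, 2]), (0, [1, 0, 2, 1, 2, 3]),
  (0, [0, 1, 1, 1, 2]), (0, [1, 1, 0, 2, 1, 1, 0]), (0, [0, 2, 1, 2, 0, 1, 2]), (0, [0, 1, 1, 0, 1]), (0, [1, 0, 2, 1, 2, 0, 1]),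
  (0, [2, 3]), (0, [0, 1, 0, 3, 3]), (0, [1, 1]), (0, [0, 1, 1, 1, 2, 0]), (0, [1]),
  (0, [1, 0, 1, 0, 1, 1, 1]), (1, [1, 2, 1, 0, 1, 1, 1]), (0, [1, 0, 1, 2, 1, 1, 3]), (0, [1, 1, 1, 0]), (0, [1, 0, 1, 1, 1, 0, 2]),
  (0, [1, 0, 1, 1, 0]), (0, [0, 0, 1, 1, 2]), (0, [0, 0, 1, 1, 2, 1]), (0, [1, 1, 0, 1, 0, 1, 1]), (0, [1, 0, 1]),
  (0, [1, 1, 1, 1, 2, 1]), (1, [0, 2, 1, 0, 1, 1]), (0, [0, 2, 1, 1, 1, 1]), (0, [0, 1, 1, 0, 1, 1, 0]), (0, [0, 1, 0, 1, 1, 1, 2, 0]),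
  (0, [1, 0, 1, 0, 1, 1, 1, 1, 0]), (0, [1, 1, 1, 0, 1]), (0, [1, 0, 1, 0, 1, 2, 0]), (0, [1, 1, 1, 0, 1, 1, 1]), (0, [1, 1, 0, 1, 0]),
  (0, [1, 0, 1, 0, 1, 1]), (0, [1, 2, 0, 1, 1, 0]), (0, [0, 1, 1, 1, 1, 0, 2, 1]), (0, [0, 1, 0, 2, 1, 2, 3]), (1, [1, 2, 1, 1, 1, 1]),
  (0, [1, 2, 1, 1, 2]), (0, [0, 1, 1, 2]), (0, [2, 0, 1, 2]), (0, [0, 0, 1, 0, 1, 2]), (0, [0, 2, 1, 1, 1, 2, 1, 3]),
  (0, [1, 0, 1, 1, 0, 1, 0]), (0, [1, 0, 1, 1, 2]), (0, [2, 0]), (0, [0, 2, 1, 0, 2, 3]), (0, [2, 1, 1, 1, 1]),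
  (0, [2, 0, 1]), (0, [2, 1]), (0, [0, 1, 1, 0, 1, 1, 0, 2]), (0, [0, 1, 2, 1, 1, 1, 2]), (1, [1, 1, 2]),
  (1, [1, 1, 0, 2]), (0, [1, 0, 2, 1, 0, 3]), (0, [1, 1, 1, 2, 1, 3]), (0, [1, 1, 1, 2, 3]), (1, []),
  (0, [1, 0, 2, 1, 2, 1]), (0, [0, 1, 0, 2, 1, 1, 0]), (0, [0, 0, 1, 0, 1, 1, 1, 2]), (0, [1, 0, 1, 1, 3, 3]), (0, [1, 0, 1, 0, 1, 2]),
  (0, [1, 2, 1, 1, 0, 2]), (1, [2, 1, 1, 2, 1]), (0, [0, 2, 1, 1, 1, 2]), (0, [1, 1, 0]), (1, [0, 0, 1, 1, 0]),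
  (0, [0, 2, 1, 0, 2, 1]), (1, [2, 0, 3]), (0, [1, 0, 1, 0, 1, 1, 1, 1, 3]), (0, [1, 1, 1, 3, 3]), (1, [2, 1, 2, 1, 1]),
  (0, [1, 0, 1, 1, 1, 1, 3]), (1, [2, 1, 2, 1]), (0, [0, 1, 0, 1, 2, 0, 1]), (0, [1, 0, 1, 0, 2, 1]), (0, [0, 1, 0, 1, 1, 1, 1]),
  (0, [1, 1, 1, 1, 2, 3]), (1, [2, 1, 1, 1, 2, 1]), (0, [0, 1, 1, 2, 1, 0]), (0, [1, 1, 1, 1, 3, 3]), (0, [0, 1, 1, 2, 1, 0, 2]),
  (0, [1, 0, 2, 1, 0, 2]), (1, [0, 0, 1]), (1, [2, 1, 2]), (0, [0, 1, 0, 1, 1]), (0, [1, 0, 1, 0, 2, 1, 1, 0]),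
  (1, [1, 2, 0, 3]), (0, [1, 2, 0]), (0, [2, 1, 1, 2, 1]), (1, [0, 0, 2, 1, 1]), (0, [1, 2, 0, 1, 1, 1, 3]),
  (0, [0, 1, 0, 1, 1, 2, 0]), (0, [1, 0, 2, 1, 1, 3]), (1, [2, 1]), (1, [2, 1, 0, 1, 1]), (0, [1, 1, 0, 2]),
  (0, [1, 1, 2, 1, 1, 0]), (1, [0, 1, 2, 1, 1, 1, 1]), (0, [0, 1, 2]), (0, [1, 0, 1, 1, 2, 0]), (0, [0, 1, 0, 2, 1, 1, 1, 3]),
  (1, [2, 1, 1, 1, 3]), (1, [2, 1, 0, 1]), (0, [0, 1, 2, 0, 3]), (0, [0, 1]), (0, [0, 0, 0, 1, 1]),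
  (0, [1, 2, 0, 1, 3]), (0, [1, 1, 0, 2, 1, 1, 1]), (0, [0, 1, 0, 2, 1, 3]), (0, [0, 0, 0]), (1, [1, 0, 3]),
  (0, [1, 1, 0, 1, 2]), (0, [1, 0, 1, 2]), (0, [0, 1, 1, 0]), (0, [0, 1, 0, 1, 2, 1, 1]), (0, [2, 0, 1, 2, 3]),
  (1, [1, 1, 0, 2, 3]), (0, [1, 1, 1, 2, 3, 3]), (0, [1, 2, 0, 1, 0]), (1, [3]), (0, [1, 1, 0, 1, 2, 1, 0]),
  (0, [1, 0, 1, 0, 1, 1, 0, 1]), (0, [0, 2, 1, 2, 0]), (0, [1, 0, 1, 1, 2, 3]), (0, [2, 1, 1, 1, 1, 3]), (0, [2, 0, 3]),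
  (0, [1, 1, 2, 0, 1, 2]), (0, [0, 0, 1, 0, 1, 1]), (0, [0, 1, 0, 2, 1, 1, 0, 3]), (0, [1, 0, 1, 0, 1, 2, 3]), (0, [1, 0, 1, 1, 1, 2]),
  (0, [2, 0, 1, 3]), (0, [1, 0, 1, 2, 0, 1, 1]), (0, [2, 1, 3]), (1, [1, 1, 2, 3]), (0, [0, 1, 1, 1, 2, 1, 1]),
  (0, [1, 2, 0, 1, 1, 0, 1]), (0, [1, 2, 1, 1]), (0, [0, 0, 0, 1, 1, 1, 0]), (0, [0, 1, 0, 1, 1, 1, 0, 3]), (0, [0, 1, 1, 0, 1, 1, 2, 0, 1]),
  (0, [0, 1, 1, 1, 2, 3]), (0, [0, 2, 1, 1, 1]), (0, [0, 0, 1, 1, 2, 1, 1]), (0, [1, 0, 1, 0, 2, 1, 2]), (0, [1, 0, 1, 2, 1, 0]),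
  (0, [0, 1, 0, 1, 1, 1, 1, 0]), (1, [1, 2, 1, 0, 1]), (0, [0, 0, 1, 1, 2, 1, 1, 1]), (1, [0, 2, 1, 0]), (0, [2, 0, 1, 0, 3]),
  (0, [2, 3, 3]), (0, [0, 1, 1, 1, 2, 0, 3]), (0, [0, 0, 0, 1, 0]), (0, [1, 3]), (0, [1, 1, 3]),
  (0, [0, 1, 0, 1, 1, 2, 1, 0]), (0, [0, 2, 1, 0, 1, 2]), (0, [1, 0, 1, 1, 1]), (0, [1, 2, 0, 1, 2]), (1, [2, 0, 1]),
  (0, [1, 1, 0, 1, 0, 2]), (0, [2, 1, 1]), (1, [0, 2, 1, 1, 1, 2]), (1, [1, 1, 0]), (0, [0, 2, 1, 1, 1, 2, 3]),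
  (0, [1, 1, 0, 1, 1, 2, 0]), (0, [0, 0, 1, 1, 1, 1]), (1, [0, 0, 2, 1, 1, 1, 0]), (0, [0, 1, 1, 0, 1, 0, 2]), (0, [0, 1, 1, 0, 1, 0]),
  (0, [1, 1, 2, 1, 0]), (0, [0, 0, 1, 1, 1]), (1, [0, 2]), (1, [2, 1, 1, 0, 1]), (0, [0, 1, 1, 1, 1, 0, 1, 1, 1]),
  (0, [1, 0, 2, 1, 0, 2, 3]), (0, [0, 1, 0, 1, 1, 3]), (1, [1]), (0, [0, 0, 1, 1, 2, 1, 1, 2]), (1, [2, 1, 2, 3]),
  (0, [0, 1, 0, 1, 1, 0]), (0, [1, 0, 1, 0, 2, 1, 3]), (1, [2, 1, 1, 0]), (0, [0, 1, 0, 1, 1, 1, 1, 3]), (0, [1, 2, 1, 1, 2, 1]),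
  (0, [1, 0, 1, 0, 1, 1, 1, 3]), (0, [0, 2, 1, 0, 1]), (1, [2, 1, 0, 1, 1, 0]), (0, [1, 0, 1, 0, 2, 1, 1, 1]), (0, [1, 0, 1, 2, 1, 1, 2, 0]),
  (0, [1, 0, 1, 0, 1, 1, 1, 2, 1]), (0, [0, 1, 0, 1, 1, 2, 1, 1]), (0, [0, 1, 0, 1, 1, 2]), (0, [0, 1, 0, 1]), (0, [0, 1, 1, 1, 1, 2]),
  (0, [1, 0, 1, 1, 0, 3]), (0, [0, 1, 0, 1, 1, 1]), (0, [1, 1, 2]), (0, [1, 0, 1, 3]), (0, [1, 1, 2, 1]),
  (0, [1, 0, 1, 0, 1, 1, 3]), (0, [0, 1, 2, 0, 1, 2]), (0, [1, 2, 0, 1, 1, 0, 3]), (1, [2, 1, 1, 0, 1, 0]), (0, [0, 0, 1, 0, 1, 0, 1, 2, 1]),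
  (0, [0, 1, 0, 1, 1, 1, 2]), (0, [1, 0, 2, 1, 0, 1]), (1, [2, 1, 1, 1, 2]), (0, [0, 1, 1, 1, 1, 2, 1]), (0, [0, 2, 1, 1, 1, 1, 3]),
  (1, [1, 0, 2, 3]), (0, [1, 0, 1, 1, 1, 0, 3]), (1, [2, 1, 1, 3]), (0, [0, 1, 2, 1, 1]), (0, [1, 0, 2]),
  (0, [1, 0, 2, 1, 3]), (1, [0, 0, 1, 0]), (0, [0, 3]), (0, [0, 1, 2, 0, 1, 3]), (0, [1, 1, 2, 0, 1, 1, 1]),
  (1, [0, 0, 2, 1, 1, 1]), (0, [0, 1, 1, 3]), (0, [0, 1, 3, 3]), (0, [0, 1, 0, 2, 3]), (1, [0, 2, 1, 1, 0]),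
  (0, [0, 1, 2, 1, 1, 1]), (0, [0, 1, 2, 0, 1, 1, 1, 3]), (0, [1, 0, 1, 1, 0, 2]), (0, [0, 1, 2, 3, 3]), (1, [2, 1, 1, 1, 1]),
  (0, [0, 1, 0, 1, 1, 0, 2]), (0, [1, 1, 2, 0]), (1, [0, 2, 1, 1, 0, 1]), (1, [0, 1, 2, 1]), (0, [1, 2, 0, 1, 1, 3]),
  (0, [0, 0, 1, 0, 1, 0, 1, 1, 1]), (0, [1, 0, 1, 2, 1, 1]), (0, [1, 0, 1, 1, 1, 2, 0, 3]), (1, [0, 2, 1, 1, 0, 1, 0]), (0, [2, 0, 1, 0, 1]),
  (0, [0, 0, 1, 1, 1, 1, 2, 1]), (0, [0, 1, 1, 0, 1, 1]), (0, [1, 1, 1, 1, 2, 1, 0]), (1, [0, 2, 1, 2, 1, 1]), (0, [1, 2, 0, 1, 0, 1]),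
  (0, [0, 0, 1, 0, 1, 0, 1, 1]), (0, [1, 0, 1, 0, 1, 2, 1, 3]), (1, [1, 2, 1, 1, 1, 0]), (0, [1, 0, 2, 1, 1, 0, 3]), (0, [0, 1, 0, 2, 1, 2]),
  (0, [0, 0, 1, 0, 1, 1, 0]), (0, [1, 1, 2, 1, 3, 3]), (0, [0, 0, 1, 0, 1]), (0, [1, 1, 2, 3, 3]), (0, [1, 1, 1, 0, 1, 2, 1]),
  (0, [1, 0, 1, 0, 1, 1, 0, 1, 1]), (0, [1, 1, 0, 1, 2, 1, 1]), (0, [1, 2, 1, 1, 0]), (0, [2, 0, 1, 0, 1, 1]), (0, [0, 1, 0, 1, 1, 1, 1, 2]),
  (0, [0, 1, 0, 1, 2, 3]), (0, [0, 1, 1, 0, 1, 2]), (1, [0, 1, 1, 1, 0]), (1, [1, 2, 1, 0, 1, 1]), (0, [1, 2, 1]),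
  (0, [1, 0, 1, 1, 1, 1]), (0, [1, 1, 1, 2, 1, 0]), (0, [1, 1, 0, 1, 0, 1, 1, 1]), (1, [1, 2, 1, 1]), (0, [1, 0, 1, 2, 0, 1, 3]),
  (0, [1, 0, 2, 1, 2, 0, 3]), (1, [1, 2, 1]), (0, [1, 1, 2, 1, 1, 2, 3]), (1, [0, 1, 1]), (0, [1, 1, 0, 1, 0, 1]),
  (0, [0, 2, 1, 2, 0, 1, 3]), (0, [1, 0, 1, 0, 1, 1, 1, 1]), (1, [1, 2, 1, 1, 1]), (1, [2, 0]), (0, [1, 1, 1, 3]),
  (0, [1, 1, 1, 1, 2]), (0, [0, 2, 1, 1, 1, 0, 3]), (0, [0, 1, 1, 0, 1, 2, 0]), (1, [2, 1, 1, 1, 0, 3]), (0, [1, 1, 1, 1, 3]),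
  (0, [1, 0, 1, 1, 0, 1, 2]), (0, [0, 1, 0, 2, 1, 1, 1, 2, 3]), (0, [0, 1, 1, 0, 1, 0, 1, 1]), (0, [0, 1, 1, 1, 0, 3]), (0, [2, 1, 1, 1]),
  (0, [0, 1, 1, 1, 0, 1, 1, 3]), (1, [0, 2, 1]), (0, [1, 0, 2, 1, 2]), (0, [1, 0, 1, 1, 1, 3, 3]), (0, [1, 1, 1, 2, 0, 3]),
  (0, [2]), (0, [0, 0, 1, 1]), (0, [0, 0, 1]), (0, [0, 1, 0, 3]), (0, [0, 1, 1, 1, 0, 2, 3]),
  (0, [0, 1, 1, 0, 1, 0, 1]), (0, [0, 2, 1, 0, 3]), (1, [2, 0, 1, 0]), (0, [1, 0, 1, 0, 1, 1, 2]), (1, [1, 1, 2, 1, 1]),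
  (0, [0, 0, 0, 1, 1, 1, 2]), (0, [1, 1, 2, 1, 0, 2]), (0, [1, 0, 1, 2, 0, 1, 2]), (0, [1, 1, 2, 1, 1, 3]), (0, [0, 1, 1, 2, 1]),
  (0, [0, 1, 0, 1, 2, 0]), (0, [0, 2, 1, 2, 3]), (0, [0, 2, 1, 1, 1, 2, 1]), (0, [0, 2, 1, 1, 3]), (0, [1, 0, 1, 2, 3, 3]),
  (0, [0, 2, 1, 3]), (0, [1, 1, 1, 2, 1, 1, 0]), (1, [0, 0, 1, 1, 2]), (0, [1, 2, 3]), (0, [1, 0, 1, 0, 2, 1, 1]),
  (0, [1, 1, 0, 2, 1, 2]), (0, [1, 0, 1, 1, 1, 2, 3, 3]), (0, [0, 0, 1, 0, 1, 0, 1, 2]), (0, [0, 1, 2, 0, 1, 1, 0, 3]), (0, [1, 0, 1, 1, 3]),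
  (0, [1, 0, 1, 0, 1, 1, 1, 2]), (0, [0, 2, 3]), (0, [1, 1, 0, 1, 1]), (0, [0, 0, 1, 0, 1, 1, 2]), (0, [0, 2, 1, 0, 2]),
  (1, [1, 1, 2, 0, 3]), (0, [1, 1, 1, 2, 1]), (1, [0, 0]), (0, [1, 0, 2, 1, 0]), (0, [1, 1, 1, 2]),
  (1, [1, 0, 2]), (1, [2, 1, 1]), (0, [1, 2, 0, 3]), (0, [1, 0, 1, 1, 1, 0]), (0, [1, 1, 2, 0, 1]),
  (1, [0, 1, 2, 1, 1, 1]), (0, [0, 1, 3]), (1, [0, 2, 1, 1, 2]), (0, [0, 1, 1]), (0, [0, 1, 0, 2]),
  (0, [0, 1, 0, 1, 1, 2, 0, 3]), (1, [0, 2, 1, 1, 2, 1]), (0, [1, 2, 0, 1, 1]), (0, [2, 1, 1, 2]), (1, [2, 1, 3]),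
  (0, [1, 0, 2, 1]), (0, [0]), (0, [1, 1, 2, 1, 1, 0, 1]), (1, [0, 1, 1, 0]), (0, [0, 1, 2, 0, 1]),
  (0, [1, 1, 2, 0, 1, 1]), (0, [1, 0, 1, 1, 2, 0, 3]), (1, [2, 1, 1, 2, 1, 0]), (0, [0, 1, 2, 0, 1, 1, 1]), (0, [0, 1, 2, 3]),
  (0, [0, 1, 0, 1, 2]), (1, [1, 1, 0, 3]), (0, [2, 1, 1, 3]), (0, [0, 1, 0, 1, 2, 1]), (1, [2, 1, 0, 2, 1, 1]),
  (0, [1, 0, 2, 1, 2, 0]), (0, [1, 1, 2, 1, 1, 2]), (0, [1, 1, 1, 0, 1, 2]), (1, [0, 0, 1, 2, 1]), (1, [1, 3]),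
  (0, [0, 0, 1, 1, 1, 1, 2]), (0, [0, 1, 0, 1, 2, 1, 0]), (0, [1, 1, 1, 1]), (0, [0, 2, 1, 1, 1, 0]), (1, [2, 1, 1, 1, 0]),
  (0, [0, 1, 0, 1, 1, 0, 3]), (0, [0, 1, 1, 1, 0, 1, 0, 2]), (0, [1, 0, 1, 2, 0, 1]), (0, [1, 1, 0, 1, 2, 1]), (1, [2, 1, 1, 0, 3]),
  (0, [0, 2, 1, 2, 0, 1]), (1, [2, 1, 1, 0, 1, 3]), (0, [1, 1, 1]), (0, [0, 0, 1, 0, 1, 0, 1, 1, 1, 1]), (1, [0, 2, 3]),
  (0, [2, 1, 1, 1, 2]), (0, [0, 1, 1, 0, 1, 2, 1]), (0, [1, 0, 1, 2, 3]), (0, [0, 2, 1, 2]), (0, [0, 2, 1, 1]),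
  (0, [0, 1, 2, 1, 1, 2]), (0, [0, 1, 1, 1, 1, 0, 2]), (0, [1, 0, 1, 1]), (0, [1, 0, 1, 1, 1, 2, 3]), (0, [0, 1, 2, 0, 1, 1, 0]),
  (1, [1, 1, 2, 0]), (1, [0, 1]), (0, [0, 0, 1, 1, 1, 2]), (0, [0, 0, 1, 1, 1, 2, 1]), (0, [1, 2, 0, 1, 0, 3]),
  (0, [0, 2, 1]), (1, [0, 1, 1, 1, 2]), (0, [1, 1, 2, 1, 1, 0, 2]), (0, [0, 1, 1, 0, 1, 1, 2, 0]), (0, [1, 2]),
  (0, [0, 1, 1, 0, 1, 1, 0, 1, 1]), (0, [1, 1, 1, 1, 0]), (0, [0, 2, 1, 2, 0, 3]), (0, [0, 2]), (0, [1, 0, 1, 1, 2, 3, 3]),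
  (0, [0, 1, 1, 1, 1, 0, 1, 1]), (0, [1, 0, 1, 1, 1, 2, 0]), (0, [0, 2, 1, 0, 1, 3]), (0, [0, 0, 1, 0, 1, 2, 1, 1]), (1, [0, 2, 1, 1, 1, 2, 1]),
  (0, [0, 1, 1, 1, 1, 0, 1]), (1, [2, 1, 1, 0, 1, 1]), (0, [0, 1, 2, 0, 1, 2, 3]), (0, [1, 0, 1, 0, 1, 2, 1]), (0, [1, 0, 2, 1, 1, 0]),
  (0, [1, 0, 1, 1, 0, 1, 0, 1]), (0, [0, 1, 0, 1, 3]), (0, [0, 1, 1, 1, 0, 1, 0]), (0, [0, 1, 1, 1, 1, 2, 3]), (0, [0, 1, 0, 1, 1, 2, 3]),
  (0, [0, 1, 0, 1, 1, 1, 2, 3]), (0, [0, 1, 0, 1, 1, 1, 0, 2]), (0, [1, 0, 2, 1, 0, 1, 3]), (0, [0, 1, 1, 2, 1, 1]), (1, [2, 0, 1, 0, 1, 1]),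
  (0, [1, 0, 1, 1, 0, 3, 3]), (0, [1, 0, 1, 3, 3]), (0, [0, 1, 0, 1, 1, 1, 3]), (0, [1, 1, 2, 1, 3]), (0, [1, 1, 2, 3]),
  (0, [1, 2, 0, 1, 1, 0, 1, 3]), (0, [0, 1, 1, 1, 0, 1, 2, 1]), (0, [1, 1, 0, 1]), (0, [0, 1, 0, 2, 1, 1, 1, 2]), (0, [0, 1, 1, 1, 0]),
  (0, [0, 0, 2]), (0, [1, 3, 3]), (0, [0, 1, 1, 1, 0, 2]), (0, [1, 1, 3, 3]), (0, [0, 1, 0]),
  (0, [1, 1, 1, 2, 0, 1]), (0, [1, 0, 2, 1, 0, 2, 1]), (0, [0, 2, 1, 1, 1, 3]), (0, [0, 2, 1, 0, 2, 1, 2]), (0, [1, 1, 2, 1, 1]),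
  (0, [0, 1, 1, 1, 0, 1, 1]), (0, [1, 2, 0, 1, 2, 3]), (0, [1, 1, 1, 2, 0]), (1, [2, 0, 1, 3]), (0, [1, 0, 1, 1, 1, 3]),
  (0, [0, 1, 1, 1, 0, 1, 2]), (1, [2, 0, 1, 2]), (1, [2, 1, 1, 2]), (0, [0, 2, 1, 0]), (0, [1, 1, 2, 1, 1, 1])]

/-- check of the table -/
def chkT : ℕ → List (ℕ × List ℕ) → Bool
  | n, [] => Nat.beq n 625
  | n, (b, p) :: t => (Nat.beq n 0 || decide (run p (base' b) = dec n)) && chkT (n + 1) t

set_option maxRecDepth 100000 in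
theorem chk_tbl : chkT 0 tbl = true := by decide +kernel

/-! ### Generic facts -/

section generic

variable {G : Type*} [Group G]

theorem ev_rep (x : Fin 4 → G) (w : List ℕ) (n : ℕ) : ev x (rep w n) = ev x w ^ n := by
  induction n with
  | zero => rw [rep, ev_nil, pow_zero]
  | succ n ih => rw [rep, ev_append, ih, pow_succ']

/-- `g` commutes with a conjugate of `τ` -/
def Good (τ g : G) : Prop := ∃ y : G, Commute (y⁻¹ * τ * y) g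

theorem Good.conj {τ g : G} (h : Good τ g) (y : G) : Good τ (y⁻¹ * g * y) := by
  obtain ⟨w, hw⟩ := h
  refine ⟨w * y, ?_⟩
  have e : (w * y)⁻¹ * τ * (w * y) = y⁻¹ * (w⁻¹ * τ * w) * y := by group
  rw [e]
  have hw' : w⁻¹ * τ * w * g = g * (w⁻¹ * τ * w) := hw
  show y⁻¹ * (w⁻¹ * τ * w) * y * (y⁻¹ * g * y) = y⁻¹ * g * y * (y⁻¹ * (w⁻¹ * τ * w) * y)
  calc y⁻¹ * (w⁻¹ * τ * w) * y * (y⁻¹ * g * y) = y⁻¹ * (w⁻¹ * τ * w * g) * y := by group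
    _ = y⁻¹ * (g * (w⁻¹ * τ * w)) * y := by rw [hw']
    _ = _ := by group

theorem Good.of_conj {τ g y : G} (h : Good τ (y⁻¹ * g * y)) : Good τ g := by
  have h1 := h.conj y⁻¹
  have e : y⁻¹⁻¹ * (y⁻¹ * g * y) * y⁻¹ = g := by group
  rwa [e] at h1

theorem Good.pow {τ g : G} (h : Good τ g) (n : ℕ) : Good τ (g ^ n) := by
  obtain ⟨w, hw⟩ := h
  exact ⟨w, hw.pow_right n⟩

theorem pw_mul {g : G} (hg : g ^ 5 = 1) (a b : ZMod 5) : Heis.pw (Heis.pw g a) b = Heis.pw g (a * b) := by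
  have h : a * b = ((a.val * b.val : ℕ) : ZMod 5) := by
    push_cast; rw [ZMod.natCast_zmod_val, ZMod.natCast_zmod_val]
  rw [h, pw_natCast hg, pow_mul]; rfl

end generic

section ctx

variable {G : Type*} [Group G] (x : Fin 5 → G)
  (wp : ∀ v w : List ℕ, eqW v w = true → ev (X4 x) v = ev (X4 x) w)

/-- the extraspecial group -/
def H : Heis.Data G where
  c i := ev (X4 x) (cw i)
  z := ev (X4 x) zw
  c5 i := by have := wp _ _ (k_c5 i); rwa [ev_rep, ev_nil] at this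
  z5 := by have := wp _ _ k_z5; rwa [ev_rep, ev_nil] at this
  zc i := by have := wp _ _ (k_zc i); rwa [ev_append, ev_append] at this
  h01 := by have := wp _ _ k01; rwa [ev_append, ev_append, ev_append, ev_rep, ← mul_assoc] at this
  h02 := by have := wp _ _ k02; rwa [ev_append, ev_append, ev_append, ev_rep, ← mul_assoc] at this
  h03 := by have := wp _ _ k03; rwa [ev_append, ev_append, ev_append, ev_rep, ← mul_assoc] at this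
  h12 := by have := wp _ _ k12; rwa [ev_append, ev_append, ev_append, ev_rep, ← mul_assoc] at this
  h13 := by have := wp _ _ k13; rwa [ev_append, ev_append, ev_append, ev_rep, ← mul_assoc] at this
  h23 := by have := wp _ _ k23; rwa [ev_append, ev_append, ev_append, ev_rep, ← mul_assoc] at this

/-- the involution `a ^ 4` -/
def τ : G := ev (X4 x) [0, 0, 0, 0]

local notation "HD" => H x wp

theorem ev_nw (a b c d m : ℕ) : ev (X4 x) (nw a b c d m) = (HD).N (toV (a, b, c, d)) m := by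
  have e : (HD).N (toV (a, b, c, d)) m = Heis.pw ((HD).c 0) (a : ZMod 5) * (Heis.pw ((HD).c 1) (b : ZMod 5) *
      (Heis.pw ((HD).c 2) (c : ZMod 5) * (Heis.pw ((HD).c 3) (d : ZMod 5) * Heis.pw (HD).z (m : ZMod 5)))) := rfl
  rw [e, pw_natCast ((HD).c5 0), pw_natCast ((HD).c5 1), pw_natCast ((HD).c5 2), pw_natCast ((HD).c5 3),
    pw_natCast (HD).z5, nw, ev_append, ev_append, ev_append, ev_append, ev_rep, ev_rep, ev_rep, ev_rep, ev_rep]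
  rfl

theorem ev_rw (r : ℕ × ℕ × ℕ × ℕ × ℕ) : (HD).R (rv r) (ev (X4 x) (rw' r)) := by
  rw [rw', ev_nw x wp]
  exact R.N _ _

theorem rowsA (i : Fin 4) : (HD).R (rv (rows 0 i)) ((x 0)⁻¹ * (HD).c i * x 0) := by
  have h := wp _ _ (k_A i)
  rw [ev_append, ev_append] at h
  have e : (x 0)⁻¹ * (HD).c i * x 0 = ev (X4 x) (rw' (rows 0 i)) := by
    rw [← h, mul_assoc]
    simp only [ev, List.map_cons, List.map_nil, List.prod_cons, List.prod_nil, mul_one]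
    rfl
  rw [e]
  exact ev_rw x wp _

theorem rowsB (i : Fin 4) : (HD).R (rv (rows 1 i)) ((x 1)⁻¹ * (HD).c i * x 1) := by
  have h := wp _ _ (k_B i)
  rw [ev_append, ev_append] at h
  have e : (x 1)⁻¹ * (HD).c i * x 1 = ev (X4 x) (rw' (rows 1 i)) := by
    rw [← h, mul_assoc]
    simp only [ev, List.map_cons, List.map_nil, List.prod_cons, List.prod_nil, mul_one]
    rfl
  rw [e]
  exact ev_rw x wp _

theorem rowsBi (i : Fin 4) : (HD).R (rv (rows 3 i)) ((x 1)⁻¹⁻¹ * (HD).c i * (x 1)⁻¹) := by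
  have h := wp _ _ (k_Bi i)
  rw [ev_append, ev_append] at h
  have e : (x 1)⁻¹⁻¹ * (HD).c i * (x 1)⁻¹ = ev (X4 x) (rw' (rows 3 i)) := by
    rw [← h, mul_assoc, inv_inv]
    simp only [ev, List.map_cons, List.map_nil, List.prod_cons, List.prod_nil, mul_one]
    rfl
  rw [e]
  exact ev_rw x wp _

theorem rowAz : (x 0)⁻¹ * (HD).z * x 0 = (HD).z ^ 2 := by
  have h := wp _ _ k_Az
  rw [ev_append, ev_append, ev_rep] at h
  rw [mul_assoc]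
  simp only [ev, List.map_cons, List.map_nil, List.prod_cons, List.prod_nil, mul_one] at h
  exact h

theorem rowBz : (x 1)⁻¹ * (HD).z * x 1 = (HD).z ^ 1 := by
  have h := wp _ _ k_Bz
  rw [ev_append, ev_append, ev_rep] at h
  rw [mul_assoc]
  simp only [ev, List.map_cons, List.map_nil, List.prod_cons, List.prod_nil, mul_one] at h
  exact h

theorem rowBiz : (x 1)⁻¹⁻¹ * (HD).z * (x 1)⁻¹ = (HD).z ^ 1 := by
  have h := wp _ _ k_Biz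
  rw [ev_append, ev_append, ev_rep] at h
  rw [mul_assoc, inv_inv]
  simp only [ev, List.map_cons, List.map_nil, List.prod_cons, List.prod_nil, mul_one] at h
  exact h

include wp in
theorem b5 : x 1 ^ 5 = 1 := by
  have h := wp _ _ k_b5
  rw [ev_rep, ev_nil] at h
  simp only [ev, List.map_cons, List.map_nil, List.prod_cons, List.prod_nil, mul_one] at h
  exact h

variable (hx : ∀ w ∈ relWords, FreeGroup.lift x (FreeGroup.mk w) = 1)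

include hx in
theorem rowsZ (i : Fin 4) : (HD).R (rv (rows 2 i)) ((x 4)⁻¹ * (HD).c i * x 4) := by
  have h := hK x hx (2 * i)
  rw [k_K] at h
  have h2 := wp _ _ (k_Z i)
  have e : (x 4)⁻¹ * (HD).c i * x 4 = ev (X4 x) (rw' (rows 2 i)) := by
    rw [← h2, mul_assoc, inv_mul_eq_iff_eq_mul]
    exact h
  rw [e]
  exact ev_rw x wp _

include hx in
theorem rowZz : (x 4)⁻¹ * (HD).z * x 4 = (HD).z ^ 2 := by
  have h := hK x hx 8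
  rw [k_Kz] at h
  have h2 := wp _ _ k_Zz
  rw [ev_rep] at h2
  rw [mul_assoc, inv_mul_eq_iff_eq_mul]
  rw [h2] at h
  exact h

/-- all the elements of the coset `v ≠ 0` commute with conjugates of `a ^ 4` -/
def S (v : V) : Prop := v ≠ 0 → ∀ y, (HD).R v y → Good (τ x) y

variable {x wp}

theorem S_of {v : V} {y : G} (hy : (HD).R v y) (hg : Good (τ x) y) : S x wp v := by
  intro hv y' hy'
  obtain ⟨m, rfl⟩ := hy
  obtain ⟨m', rfl⟩ := hy'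
  obtain ⟨w, hw⟩ := conj_of_ne (H := HD) hv m m'
  rw [← hw]
  exact hg.conj w

theorem act_zero (M : Fin 4 → V) : act M 0 = 0 := by simp [act]

theorem S_act {M : Fin 4 → V} {g : G} (hM : ∀ i, (HD).R (M i) (g⁻¹ * (HD).c i * g)) {k : ℕ}
    (hz : g⁻¹ * (HD).z * g = (HD).z ^ k) {v : V} (hS : S x wp v) : S x wp (act M v) := by
  intro hv
  have hv0 : v ≠ 0 := by
    rintro rfl
    exact hv (act_zero M)
  have h1 : Good (τ x) ((HD).N v 0) := hS hv0 _ (R.N v 0)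
  exact S_of (R.conj hM hz (R.N v 0)) (h1.conj g) hv

theorem S_smul {v : V} (hS : S x wp v) : S x wp (2 • v) := by
  intro hv
  have hv0 : v ≠ 0 := by
    rintro rfl
    exact hv (smul_zero _)
  have h1 : Good (τ x) ((HD).N v 0) := hS hv0 _ (R.N v 0)
  exact S_of ((R.N v 0).pow 2) (h1.pow 2) hv

theorem toV_step0 (v : ℕ × ℕ × ℕ × ℕ) : toV (step 0 v) = act (fun i => rv (rows 0 i)) (toV v) := by
  obtain ⟨a, b, c, d⟩ := v
  funext j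
  fin_cases j <;> simp [toV, step, act, rv, rows, ZMod.natCast_mod] <;> ring

theorem toV_step1 (v : ℕ × ℕ × ℕ × ℕ) : toV (step 1 v) = act (fun i => rv (rows 1 i)) (toV v) := by
  obtain ⟨a, b, c, d⟩ := v
  funext j
  fin_cases j <;> simp [toV, step, act, rv, rows, ZMod.natCast_mod] <;> ring

theorem toV_step2 (v : ℕ × ℕ × ℕ × ℕ) : toV (step 2 v) = act (fun i => rv (rows 2 i)) (toV v) := by
  obtain ⟨a, b, c, d⟩ := v
  funext j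
  fin_cases j <;> simp [toV, step, act, rv, rows, ZMod.natCast_mod] <;> ring

theorem toV_step3 (k : ℕ) (v : ℕ × ℕ × ℕ × ℕ) : toV (step (k + 3) v) = 2 • toV v := by
  obtain ⟨a, b, c, d⟩ := v
  funext j
  fin_cases j <;> simp [toV, step, ZMod.natCast_mod]

include hx in
theorem S_step (k : ℕ) (v : ℕ × ℕ × ℕ × ℕ) (h : S x wp (toV v)) : S x wp (toV (step k v)) := by
  match k with
  | 0 => rw [toV_step0]; exact S_act (rowsA x wp) (rowAz x wp) h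
  | 1 => rw [toV_step1]; exact S_act (rowsB x wp) (rowBz x wp) h
  | 2 => rw [toV_step2]; exact S_act (rowsZ x wp hx) (rowZz x wp hx) h
  | k + 3 => rw [toV_step3]; exact S_smul h

include hx in
theorem S_run (p : List ℕ) : ∀ v : ℕ × ℕ × ℕ × ℕ, S x wp (toV v) → S x wp (toV (run p v)) := by
  induction p with
  | nil => intro v h; exact h
  | cons k p ih => intro v h; exact ih _ (S_step hx k v h)

theorem ev_tw (g : List ℕ) : ev (X4 x) (tw' g) = (ev (X4 x) g)⁻¹ * τ x * ev (X4 x) g := by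
  rw [tw', ev_append, ev_append, ev_invW, ← mul_assoc]
  rfl

theorem S_base (b : ℕ) : S x wp (toV (base' b)) := by
  match b with
  | 0 =>
    refine S_of (y := ev (X4 x) (nw 0 1 1 0 4)) (by rw [ev_nw x wp]; exact R.N _ _) ⟨ev (X4 x) [2, 0, 3, 5, 2, 3], ?_⟩
    have h := wp _ _ k_base0
    rw [ev_append, ev_append, ev_tw] at h
    exact h
  | b + 1 =>
    refine S_of (y := ev (X4 x) (nw 1 3 3 4 1)) (by rw [ev_nw x wp]; exact R.N _ _) ⟨ev (X4 x) [2, 4, 1, 2, 3], ?_⟩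
    have h := wp _ _ k_base1
    rw [ev_append, ev_append, ev_tw] at h
    exact h

include hx in
theorem S_chk (t : List (ℕ × List ℕ)) : ∀ n, chkT n t = true → ∀ k, n ≤ k → k < 625 → k ≠ 0 →
    S x wp (toV (dec k)) := by
  induction t with
  | nil =>
    intro n h k h1 h2 _
    rw [chkT] at h
    have := Nat.eq_of_beq_eq_true h
    omega
  | cons q t ih =>
    obtain ⟨b, p⟩ := q
    intro n h k h1 h2 h3
    rw [chkT, Bool.and_eq_true, Bool.or_eq_true, decide_eq_true_iff] at h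
    rcases Nat.eq_or_lt_of_le h1 with rfl | h4
    · rcases h.1 with h5 | h5
      · exact absurd (Nat.eq_of_beq_eq_true h5) h3
      · rw [← h5]
        exact S_run hx p _ (S_base b)
    · exact ih (n + 1) h.2 k h4 h2 h3

theorem exists_dec (v : V) : ∃ n < 625, toV (dec n) = v := by
  have h0 := (v 0).val_lt
  have h1 := (v 1).val_lt
  have h2 := (v 2).val_lt
  have h3 := (v 3).val_lt
  refine ⟨125 * (v 0).val + 25 * (v 1).val + 5 * (v 2).val + (v 3).val, by omega, ?_⟩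
  have e0 : (125 * (v 0).val + 25 * (v 1).val + 5 * (v 2).val + (v 3).val) / 125 = (v 0).val := by omega
  have e1 : (125 * (v 0).val + 25 * (v 1).val + 5 * (v 2).val + (v 3).val) / 25 % 5 = (v 1).val := by omega
  have e2 : (125 * (v 0).val + 25 * (v 1).val + 5 * (v 2).val + (v 3).val) / 5 % 5 = (v 2).val := by omega
  have e3 : (125 * (v 0).val + 25 * (v 1).val + 5 * (v 2).val + (v 3).val) % 5 = (v 3).val := by omega
  rw [dec, e0, e1, e2, e3]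
  funext j
  fin_cases j <;> simp [toV]

include hx in
/-- Every element of `E ∖ ⟨c₅⟩` commutes with a conjugate of `a ^ 4`. -/
theorem good_of_R {v : V} (hv : v ≠ 0) {y : G} (hy : (HD).R v y) : Good (τ x) y := by
  obtain ⟨n, hn, rfl⟩ := exists_dec v
  have hn0 : n ≠ 0 := by
    rintro rfl
    apply hv
    funext j
    fin_cases j <;> simp [toV, dec]
  exact S_chk hx tbl 0 chk_tbl n (Nat.zero_le n) hn hn0 hv y hy

theorem good_z (m : ZMod 5) : Good (τ x) (Heis.pw (HD).z m) := by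
  refine ⟨1, ?_⟩
  rw [inv_one, one_mul, mul_one]
  have h := wp _ _ k_tz
  rw [ev_append, ev_append] at h
  exact Commute.pow_right h _

/-! ### The Sylow subgroup -/

/-- conjugation by `b` preserves `E` -/
theorem b_conj (n : ℕ) : ∀ {v : V} {y : G}, (HD).R v y → ∃ v', (HD).R v' (x 1 ^ n * y * (x 1 ^ n)⁻¹) := by
  induction n with
  | zero => intro v y h; exact ⟨v, by simpa using h⟩
  | succ n ih =>
    intro v y h
    have h1 := R.conj (rowsBi x wp) (rowBiz x wp) h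
    obtain ⟨v', hv'⟩ := ih h1
    refine ⟨v', ?_⟩
    have e : x 1 ^ n * ((x 1)⁻¹⁻¹ * y * (x 1)⁻¹) * (x 1 ^ n)⁻¹ = x 1 ^ (n + 1) * y * (x 1 ^ (n + 1))⁻¹ := by
      rw [pow_succ]; group
    rwa [e] at hv'

variable (x wp) in
/-- the elements of `E bᵏ` -/
def Q (k : ZMod 5) (y : G) : Prop := ∃ v y0, (HD).R v y0 ∧ y = y0 * Heis.pw (x 1) k

theorem Q.mul {k l : ZMod 5} {y y' : G} (hy : Q x wp k y) (hy' : Q x wp l y') : Q x wp (k + l) (y * y') := by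
  obtain ⟨v, y0, h0, rfl⟩ := hy
  obtain ⟨v', y1, h1, rfl⟩ := hy'
  obtain ⟨w, hw⟩ := b_conj k.val h1
  refine ⟨v + w, _, h0.mul hw, ?_⟩
  rw [pw_add (b5 x wp)]
  unfold Heis.pw
  group

theorem Q.one : Q x wp 0 1 := ⟨0, 1, R.one, by rw [pw_zero, mul_one]⟩

theorem Q.pow {k : ZMod 5} {y : G} (hy : Q x wp k y) (n : ℕ) : Q x wp (n * k) (y ^ n) := by
  induction n with
  | zero => rw [Nat.cast_zero, zero_mul, pow_zero]; exact Q.one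
  | succ n ih =>
    rw [pow_succ, Nat.cast_succ, add_mul, one_mul]
    exact ih.mul hy

theorem Q.b : Q x wp 1 (x 1) := ⟨0, 1, R.one, by rw [pw_one, one_mul]⟩

theorem Q.ofR {v : V} {y : G} (h : (HD).R v y) : Q x wp 0 y := ⟨v, y, h, by rw [pw_zero, mul_one]⟩

/-- the solution of `X + v - act Bi X = (0, p, 0, 0)` -/
def SM : Fin 4 → V := ![![0, 3, 3, 2], ![0, 0, 0, 0], ![0, 3, 2, 2], ![0, 3, 1, 0]]

theorem SM_spec (v : V) : act SM v + (v + -act (fun i => rv (rows 3 i)) (act SM v)) = ![0, v 1, 0, 0] := by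
  have e : (fun i => rv (rows 3 i)) = ![![0, 0, 0, 1], ![3, 1, 2, 2], ![1, 0, 0, 0], ![2, 0, 1, 3]] := by
    funext i j
    fin_cases i <;> fin_cases j <;> rfl
  rw [e]
  funext j
  fin_cases j
  all_goals
    simp only [act, SM, Pi.add_apply, Pi.neg_apply, Pi.smul_apply, smul_eq_mul, Matrix.cons_val, Fin.zero_eta,
      Fin.mk_one, Fin.reduceFinMk]
    ring_nf
    try reduce_mod_char

theorem vec_ne (m : ZMod 5) : m • toV (2, 0, 4, 4) + toV (1, 0, 4, 3) ≠ 0 := by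
  revert m
  decide

/-- `c₅^m b` commutes with a conjugate of `a ^ 4` -/
theorem good_zb (hx : ∀ w ∈ relWords, FreeGroup.lift x (FreeGroup.mk w) = 1) (m : ZMod 5) :
    Good (τ x) (Heis.pw (HD).z m * x 1) := by
  set e : G := ev (X4 x) ew with he
  have h1 : e⁻¹ * x 1 * e = (HD).N (toV (1, 0, 4, 3)) (0 : ℕ) := by
    have h := wp _ _ k_eb
    rw [ev_nw x wp, ev_append, ev_append, ev_invW] at h
    rw [mul_assoc, ← h]
    simp only [ev, List.map_cons, List.map_nil, List.prod_cons, List.prod_nil, mul_one]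
    rfl
  have h2 : e⁻¹ * (HD).z * e = (HD).N (toV (2, 0, 4, 4)) (3 : ℕ) := by
    have h := wp _ _ k_ez
    rw [ev_nw x wp, ev_append, ev_append, ev_invW] at h
    rw [mul_assoc, ← h]
    rfl
  have h3 : e⁻¹ * Heis.pw (HD).z m * e = Heis.pw (e⁻¹ * (HD).z * e) m := by
    have := conj_pow (a := e⁻¹) (b := (HD).z) (i := m.val)
    rw [inv_inv] at this
    exact this.symm
  apply Good.of_conj (y := e)
  have h4 : e⁻¹ * (Heis.pw (HD).z m * x 1) * e = Heis.pw (e⁻¹ * (HD).z * e) m * (e⁻¹ * x 1 * e) := by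
    rw [← h3]; group
  rw [h4, h1, h2]
  exact good_of_R hx (vec_ne m) (((R.N _ _).pw m).mul (R.N _ _))

theorem z_b : (HD).z * x 1 = x 1 * (HD).z := by
  have h := rowBz x wp
  rw [pow_one, mul_assoc, inv_mul_eq_iff_eq_mul] at h
  exact h

/-- `(c₂^p b)^5` -/
theorem p_pow {p : ZMod 5} (hp : p ≠ 0) (hz : (HD).z ≠ 1) : (Heis.pw ((HD).c 1) p * x 1) ^ 5 ≠ 1 := by
  have hb : ev (X4 x) [1] = x 1 := by
    simp only [ev, List.map_cons, List.map_nil, List.prod_cons, List.prod_nil, mul_one]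
    rfl
  have key : ∀ n : ℕ, ∀ w : List ℕ, ev (X4 x) w ≠ 1 → eqW (rep (rep (cw 1) n ++ [1]) 5) w = true →
      (((HD).c 1) ^ n * x 1) ^ 5 ≠ 1 := by
    intro n w hw h
    have h1 := wp _ _ h
    rw [ev_rep, ev_append, ev_rep, hb] at h1
    have h2 : (((HD).c 1) ^ n * x 1) ^ 5 = ev (X4 x) w := h1
    rw [h2]
    exact hw
  have hz4 : (HD).z ^ 4 ≠ 1 := by
    intro h
    apply hz
    have h5 := (HD).z5
    rw [pow_succ, h, one_mul] at h5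
    exact h5
  have w1 : ev (X4 x) zw ≠ 1 := hz
  have w4 : ev (X4 x) (rep zw 4) ≠ 1 := by rw [ev_rep]; exact hz4
  have hlt := p.val_lt
  have hne : p.val ≠ 0 := by rwa [Ne, ZMod.val_eq_zero]
  unfold Heis.pw
  generalize p.val = n at hlt hne
  have : n = 1 ∨ n = 2 ∨ n = 3 ∨ n = 4 := by omega
  rcases this with rfl | rfl | rfl | rfl
  · exact key 1 zw w1 k_p1'
  · exact key 2 _ w4 k_p2
  · exact key 3 _ w4 k_p3
  · exact key 4 _ w1 k_p4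

/-- elements of order 5 of `E b` -/
theorem good_Q1 (hx : ∀ w ∈ relWords, FreeGroup.lift x (FreeGroup.mk w) = 1) (hz : (HD).z ≠ 1) {y : G}
    (hy : Q x wp 1 y) (h5 : y ^ 5 = 1) : Good (τ x) y := by
  obtain ⟨v, y0, h0, rfl⟩ := hy
  rw [pw_one] at h5 ⊢
  set g : G := (HD).N (act SM v) 0 with hg
  have h1 : (HD).R (-act (fun i => rv (rows 3 i)) (act SM v)) (x 1 * g⁻¹ * (x 1)⁻¹) := by
    have h := (R.conj (rowsBi x wp) (rowBiz x wp) (R.N (H := HD) (act SM v) 0)).inv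
    have e : ((x 1)⁻¹⁻¹ * g * (x 1)⁻¹)⁻¹ = x 1 * g⁻¹ * (x 1)⁻¹ := by group
    rwa [← hg, e] at h
  have h2 := (R.N (H := HD) (act SM v) 0).mul (h0.mul h1)
  rw [SM_spec, ← hg] at h2
  obtain ⟨m, hm⟩ := h2
  have h3 : g * (y0 * x 1) * g⁻¹ = Heis.pw ((HD).c 1) (v 1) * x 1 * Heis.pw (HD).z m := by
    have e1 : g * (y0 * x 1) * g⁻¹ = g * (y0 * (x 1 * g⁻¹ * (x 1)⁻¹)) * x 1 := by group
    have e2 : Heis.pw (HD).z m * x 1 = x 1 * Heis.pw (HD).z m := (Commute.pow_left (z_b (wp := wp)) m.val).eq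
    rw [e1, hm, mul_assoc _ (x 1), ← e2, ← mul_assoc]
    congr 1
    unfold Heis.Data.N
    simp [pw_zero]
  have hcomm : Commute (Heis.pw ((HD).c 1) (v 1) * x 1) (Heis.pw (HD).z m) := by
    apply Commute.mul_left
    · exact (commute_pw ((HD).zc 1) m (v 1)).symm
    · exact (Commute.pow_left (z_b (wp := wp)) m.val).symm
  have hz5 : Heis.pw (HD).z m ^ 5 = 1 := by
    unfold Heis.pw
    rw [← pow_mul, mul_comm, pow_mul, (HD).z5, one_pow]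
  have h4 : (g * (y0 * x 1) * g⁻¹) ^ 5 = 1 := by rw [conj_pow, h5, mul_one, mul_inv_cancel]
  rw [h3, hcomm.mul_pow, hz5, mul_one] at h4
  have hv : v 1 = 0 := by
    by_contra hne
    exact p_pow hne hz h4
  rw [hv, pw_zero, one_mul] at h3
  apply Good.of_conj (y := g⁻¹)
  have e2 : Heis.pw (HD).z m * x 1 = x 1 * Heis.pw (HD).z m := (Commute.pow_left (z_b (wp := wp)) m.val).eq
  rw [inv_inv, h3, ← e2]
  exact good_zb hx m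

/-- **Elements of order 5 of the Sylow 5-subgroup commute with a conjugate of `a ^ 4`.** -/
theorem good_of_Q (hx : ∀ w ∈ relWords, FreeGroup.lift x (FreeGroup.mk w) = 1) (hz : (HD).z ≠ 1) {y : G}
    {k : ZMod 5} (hy : Q x wp k y) (h5 : y ^ 5 = 1) : Good (τ x) y := by
  have hp : Fact (Nat.Prime 5) := ⟨by norm_num⟩
  by_cases hk : k = 0
  · subst hk
    obtain ⟨v, y0, h0, rfl⟩ := hy
    rw [pw_zero, mul_one]
    by_cases hv : v = 0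
    · subst hv
      obtain ⟨m, rfl⟩ := h0
      rw [N_zero]
      exact good_z m
    · exact good_of_R hx hv h0
  · have h1 : Q x wp 1 (y ^ (k⁻¹).val) := by
      have h := hy.pow (k⁻¹).val
      rwa [ZMod.natCast_zmod_val, inv_mul_cancel₀ hk] at h
    have h2 : (y ^ (k⁻¹).val) ^ 5 = 1 := by rw [← pow_mul, mul_comm, pow_mul, h5, one_pow]
    have h3 := (good_Q1 hx hz h1 h2).pow k.val
    have h4 : (y ^ (k⁻¹).val) ^ k.val = y := by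
      have h := pw_mul h5 k⁻¹ k
      rw [inv_mul_cancel₀ hk, pw_one] at h
      exact h
    rwa [h4] at h3

end ctx

end Cfsg.Agent.R10.FiveCalc
end

-- part: R10/FiveComm
section
/-!
# Every element of order 5 of the presented Lyons group commutes with an involution

`isLy`: the presented group `Cfsg.Spor.Ly` is simple of order 51765179004000000.
`good_five`: if `k ^ 5 = 1` then `k` commutes with a conjugate of the involution `a ^ 4`.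
-/

set_option autoImplicit false

namespace Cfsg.Agent.R10.FiveComm

open Cfsg.Agent.Ly.Mat7 Cfsg.Agent.Ly.Pres Cfsg.Agent.Ly.WalkCtx Cfsg.Agent.Ly.Rep111 Cfsg.Agent.Ly.CardLevel
  Cfsg.Agent.Ly.CardDataFive
open Cfsg.Agent.R10.Heis Cfsg.Agent.R10.Heis.Data Cfsg.Agent.R10.FiveCalc

instance finite_ly : Finite Cfsg.Spor.Ly := Cfsg.Agent.Ly.Index.card_ly_le.1

/-- The presented Lyons group is simple and has the right order. -/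
theorem isLy : IsSimpleGroup Cfsg.Spor.Ly ∧ Nat.card Cfsg.Spor.Ly = 51765179004000000 := by
  refine Cfsg.Agent.Ly.Simple.isLy_of_le Cfsg.Agent.Ly.Index.card_ly_le.2 ?_
  have : Finite rho.range := Finite.of_surjective rho.rangeRestrict rho.rangeRestrict_surjective
  refine Cfsg.Agent.Ly.CardDvd.dvd rho.range rho.range.subtype ?_
  intro i
  rw [Subgroup.range_subtype]
  exact ⟨gens i, rho_gens i⟩

/-- words of `G₂(5)` in the presented group -/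
theorem wp (v w : List ℕ) (h : eqW v w = true) : ev (X4 gens) v = ev (X4 gens) w :=
  Cfsg.Agent.Ly.Index.data.wp v w h

/-- the extraspecial group in the presented group -/
abbrev HL : Heis.Data Cfsg.Spor.Ly := H gens wp

/-- the Sylow 5-subgroup -/
def U : Subgroup Cfsg.Spor.Ly := Subgroup.closure {gens 1, (HL).c 1}

theorem Q_of_mem {y : Cfsg.Spor.Ly} (hy : y ∈ U) : ∃ k, Q gens wp k y := by
  induction hy using Subgroup.closure_induction with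
  | mem y hy =>
    rcases hy with rfl | hy
    · exact ⟨1, Q.b⟩
    · rw [Set.mem_singleton_iff] at hy
      rw [hy]
      exact ⟨0, Q.ofR (R.c 1)⟩
  | one => exact ⟨0, Q.one⟩
  | mul y z _ _ h1 h2 =>
    obtain ⟨k, hk⟩ := h1
    obtain ⟨l, hl⟩ := h2
    exact ⟨_, hk.mul hl⟩
  | inv y _ h =>
    obtain ⟨k, hk⟩ := h
    have e : y⁻¹ = y ^ (orderOf y - 1) := by
      symm
      apply eq_inv_of_mul_eq_one_left
      rw [← pow_succ, Nat.sub_add_cancel (orderOf_pos y), pow_orderOf_eq_one]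
    rw [e]
    exact ⟨_, hk.pow _⟩

theorem card_U_le : Nat.card U ≤ 15625 := by
  have hs : Function.Surjective (fun p : {p : V × ZMod 5 × ZMod 5 //
      (HL).N p.1 p.2.1 * Heis.pw (gens 1) p.2.2 ∈ U} => (⟨_, p.2⟩ : U)) := by
    rintro ⟨y, hy⟩
    obtain ⟨k, v, y0, ⟨m, rfl⟩, rfl⟩ := Q_of_mem hy
    exact ⟨⟨(v, m, k), hy⟩, rfl⟩
  have h1 := Nat.card_le_card_of_surjective _ hs
  have h2 : Nat.card {p : V × ZMod 5 × ZMod 5 // (HL).N p.1 p.2.1 * Heis.pw (gens 1) p.2.2 ∈ U} ≤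
      Nat.card (V × ZMod 5 × ZMod 5) := Nat.card_le_card_of_injective _ Subtype.val_injective
  have h3 : Nat.card (V × ZMod 5 × ZMod 5) = 15625 := by
    rw [Nat.card_prod, Nat.card_prod, Nat.card_zmod, Nat.card_fun, Nat.card_zmod, Nat.card_eq_fintype_card,
      Fintype.card_fin]
    norm_num
  omega

theorem card_U_le' (hz : (HL).z = 1) : Nat.card U ≤ 3125 := by
  have hs : Function.Surjective (fun p : {p : V × ZMod 5 //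
      (HL).N p.1 0 * Heis.pw (gens 1) p.2 ∈ U} => (⟨_, p.2⟩ : U)) := by
    rintro ⟨y, hy⟩
    obtain ⟨k, v, y0, ⟨m, hm⟩, he⟩ := Q_of_mem hy
    have e : (HL).N v m = (HL).N v 0 := by
      unfold Heis.Data.N
      rw [hz]
      simp [Heis.pw]
    rw [e] at hm
    subst hm
    subst he
    exact ⟨⟨(v, k), hy⟩, rfl⟩
  have h1 := Nat.card_le_card_of_surjective _ hs
  have h2 : Nat.card {p : V × ZMod 5 // (HL).N p.1 0 * Heis.pw (gens 1) p.2 ∈ U} ≤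
      Nat.card (V × ZMod 5) := Nat.card_le_card_of_injective _ Subtype.val_injective
  have h3 : Nat.card (V × ZMod 5) = 3125 := by
    rw [Nat.card_prod, Nat.card_zmod, Nat.card_fun, Nat.card_zmod, Nat.card_eq_fintype_card,
      Fintype.card_fin]
    norm_num
  omega

theorem dvd_card_U : 15625 ∣ Nat.card U := by
  have h1 : cl wF5_0 ≤ U.map rho := by
    rw [cl, Subgroup.closure_le]
    intro g hg
    simp only [wF5_0, List.map_cons, List.map_nil, Set.mem_ofPred_eq, List.mem_cons, List.not_mem_nil, or_false] at hg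
    rcases hg with rfl | rfl
    · refine ⟨gens 1, Subgroup.subset_closure (Or.inl rfl), ?_⟩
      rw [← rho_lift]
      congr 1
    · refine ⟨(HL).c 1, Subgroup.subset_closure (Or.inr rfl), ?_⟩
      rw [← rho_lift]
      congr 1
  have h2 : Nat.card (cl wF5_0) ∣ Nat.card (U.map rho) := Subgroup.card_dvd_of_le h1
  have h3 : Nat.card (U.map rho) ∣ Nat.card U := Subgroup.card_map_dvd U rho
  exact (dvdF5_0.trans h2).trans h3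

theorem card_U : Nat.card U = 15625 := le_antisymm card_U_le (Nat.le_of_dvd Nat.card_pos dvd_card_U)

theorem z_ne : (HL).z ≠ 1 := by
  intro h
  have h1 := card_U_le' h
  have h2 := card_U
  omega

/-- the Sylow 5-subgroup -/
noncomputable def P : Sylow 5 Cfsg.Spor.Ly :=
  haveI : Fact (Nat.Prime 5) := ⟨by norm_num⟩
  Sylow.ofCard U (by
    rw [card_U, isLy.2]
    have e : (51765179004000000 : ℕ) = 5 ^ 6 * 3312971456256 := by norm_num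
    have h : (51765179004000000 : ℕ).factorization 5 = 6 := by
      rw [e, Nat.factorization_mul (by norm_num) (by norm_num), Nat.Prime.factorization_pow (by norm_num)]
      simp only [Finsupp.coe_add, Pi.add_apply, Finsupp.single_eq_same]
      rw [Nat.factorization_eq_zero_of_not_dvd (by norm_num)]
    rw [h]
    norm_num)

theorem coe_P : (P : Subgroup Cfsg.Spor.Ly) = U := rfl

/-- **Every element of order 5 commutes with a conjugate of `a ^ 4`.** -/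
theorem good_five {k : Cfsg.Spor.Ly} (hk : k ^ 5 = 1) : Good (τ gens) k := by
  have : Fact (Nat.Prime 5) := ⟨by norm_num⟩
  have hP : IsPGroup 5 (Subgroup.zpowers k) := by
    rintro ⟨g, hg⟩
    obtain ⟨n, rfl⟩ := Subgroup.mem_zpowers_iff.1 hg
    refine ⟨1, ?_⟩
    apply Subtype.ext
    show (k ^ n) ^ (5 ^ 1) = 1
    rw [pow_one, ← zpow_natCast, ← zpow_mul, mul_comm, zpow_mul, zpow_natCast, hk, one_zpow]
  obtain ⟨S, hS⟩ := hP.exists_le_sylow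
  obtain ⟨g, hg⟩ := MulAction.exists_smul_eq Cfsg.Spor.Ly P S
  have h1 : k ∈ (S : Subgroup Cfsg.Spor.Ly) := hS (Subgroup.mem_zpowers k)
  rw [← hg, Sylow.coe_subgroup_smul, Subgroup.mem_pointwise_smul_iff_inv_smul_mem, coe_P] at h1
  have h2 : g⁻¹ * k * g ∈ U := by
    have e : (MulAut.conj g)⁻¹ • k = g⁻¹ * k * g := by
      rw [← map_inv, MulAut.smul_def, MulAut.conj_apply, inv_inv]
    rwa [e] at h1
  obtain ⟨l, hl⟩ := Q_of_mem h2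
  apply Good.of_conj (y := g)
  refine good_of_Q rel_hold z_ne hl ?_
  have := conj_pow (a := g⁻¹) (b := k) (i := 5)
  rw [inv_inv] at this
  rw [this, hk, mul_one, inv_mul_cancel]

theorem τ_eq : τ gens = gens 0 ^ 4 := by
  unfold τ
  simp only [ev, List.map_cons, List.map_nil, List.prod_cons, List.prod_nil, mul_one, pow_succ, pow_zero, one_mul,
    mul_assoc]
  rfl

theorem order_τ : orderOf (τ gens) = 2 := by
  rw [τ_eq]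
  exact Cfsg.Agent.Ly.Final.tw_order isLy.1

/-- Every element of order 5 commutes with an involution. -/
theorem exists_involution {k : Cfsg.Spor.Ly} (hk : k ^ 5 = 1) : ∃ s : Cfsg.Spor.Ly, orderOf s = 2 ∧ s * k = k * s := by
  obtain ⟨y, hy⟩ := good_five hk
  refine ⟨_, ?_, hy⟩
  have e : y⁻¹ * τ gens * y = MulAut.conj y⁻¹ (τ gens) := by rw [MulAut.conj_apply, inv_inv]
  rw [e, MulEquiv.orderOf_eq, order_τ]

end Cfsg.Agent.R10.FiveComm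
end
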