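import Mathlib
set_option linter.all false

-- part: R10/NGenMod
section
/-!
# The natural module of `5^{1+4} : 4 S_6` as a module for `GL_2(5)`

`Ops A B H` : the operators of the generators `a`, `b` of `GL_2(5)` (and of a torus element `h`)
on an `F_5`-space.  If the space has dimension four, carries an invariant symplectic form with the
right multipliers and the commutator `[a, b]` (a 3-cycle) has a two-dimensional fixed space, then
the space is isomorphic to an explicit module.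
-/

set_option autoImplicit false

namespace Cfsg.Agent.R10.NGenMod

open Module

variable {W : Type*} [AddCommGroup W] [Module (ZMod 5) W]

instance fact5 : Fact (Nat.Prime 5) := ⟨by norm_num⟩

theorem five_smul (w : W) : (5 : ℕ) • w = 0 := by
  have h := Nat.cast_smul_eq_nsmul (ZMod 5) 5 w
  rw [← h]
  have : ((5 : ℕ) : ZMod 5) = 0 := by decide
  rw [this, zero_smul]

/-- relations of the operators -/
structure Ops (A B H : End (ZMod 5) W) : Prop where
  B5 : B ^ 5 = 1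
  A4 : A ^ 4 = -1
  H4 : H ^ 4 = 1
  A2B : A ^ 2 * B = B * A ^ 2
  A2H : A ^ 2 * H = H * A ^ 2
  HB : H * B = B ^ 2 * H
  r1 : A * B * A = B ^ 2 * A * H * B ^ 2
  r2 : A * B ^ 2 * A = B * A * H ^ 3 * A ^ 2 * B
  r3 : A * B ^ 3 * A = -(B ^ 4 * A * H ^ 3 * A ^ 2 * B ^ 4)
  r4 : A * B ^ 4 * A = -(B ^ 3 * A * H * B ^ 3)

theorem sub_one_pow_five {B : End (ZMod 5) W} (h : B ^ 5 = 1) : (B - 1) ^ 5 = 0 := by
  have hc : CharP (End (ZMod 5) W) 5 ∨ Subsingleton (End (ZMod 5) W) := by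
    by_cases hs : Subsingleton W
    · right
      exact ⟨fun f g => LinearMap.ext fun w => Subsingleton.elim _ _⟩
    · left
      have : Nontrivial W := not_subsingleton_iff_nontrivial.1 hs
      exact charP_of_injective_algebraMap (algebraMap (ZMod 5) (End (ZMod 5) W)).injective 5
  rcases hc with hc | hc
  · rw [sub_pow_char_of_commute (R := End (ZMod 5) W) 5 (Commute.one_right B), h, one_pow, sub_self]
  · exact Subsingleton.elim _ _

theorem sub_one_pow_four {B : End (ZMod 5) W} (h : B ^ 5 = 1) (hd : finrank (ZMod 5) W = 4) :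
    (B - 1) ^ 4 = 0 := by
  have : Module.Finite (ZMod 5) W := Module.finite_of_finrank_eq_succ hd
  have hn : IsNilpotent (B - 1) := ⟨5, sub_one_pow_five h⟩
  have h1 := IsNilpotent.charpoly_eq_X_pow_finrank hn
  have h2 := LinearMap.aeval_self_charpoly (B - 1)
  rw [h1, hd, map_pow, Polynomial.aeval_X] at h2
  exact h2

theorem exists_ker (N : End (ZMod 5) W) : ∀ (k : ℕ), N ^ k = 0 → ∀ w : W, w ≠ 0 →
    ∃ v : W, v ≠ 0 ∧ N v = 0 := by
  intro k
  induction k with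
  | zero =>
    intro h w hw
    exfalso
    apply hw
    have := congrArg (fun f : End (ZMod 5) W => f w) h
    simpa using this
  | succ k ih =>
    intro h w hw
    by_cases h1 : N w = 0
    · exact ⟨w, hw, h1⟩
    · by_cases h2 : N ^ k = 0
      · exact ih h2 w hw
      · obtain ⟨u, hu⟩ : ∃ u, (N ^ k) u ≠ 0 := by
          by_contra hcon
          push Not at hcon
          exact h2 (LinearMap.ext hcon)
        refine ⟨(N ^ k) u, hu, ?_⟩
        have := congrArg (fun f : End (ZMod 5) W => f u) h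
        rw [pow_succ'] at this
        exact this

theorem exists_eig (P : Submodule (ZMod 5) W) (T : End (ZMod 5) W) (hT : ∀ v ∈ P, T v ∈ P)
    (h4 : T ^ 4 = 1) {v : W} (hv : v ∈ P) (hv0 : v ≠ 0) :
    ∃ w ∈ P, w ≠ 0 ∧ ∃ l : ZMod 5, T w = l • w := by
  have hpoly : (T - algebraMap _ _ (1 : ZMod 5)) * ((T - algebraMap _ _ (2 : ZMod 5)) *
      ((T - algebraMap _ _ (3 : ZMod 5)) * (T - algebraMap _ _ (4 : ZMod 5)))) = 0 := by
    have h1 : (Polynomial.X - Polynomial.C (1 : ZMod 5)) * ((Polynomial.X - Polynomial.C 2) *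
        ((Polynomial.X - Polynomial.C 3) * (Polynomial.X - Polynomial.C 4))) =
        Polynomial.X ^ 4 - 1 := by
      have e : (Polynomial.C (5 : ZMod 5)) = 0 := by
        have : (5 : ZMod 5) = 0 := by decide
        rw [this, map_zero]
      have c1 : Polynomial.C (1 : ZMod 5) = 1 := map_one _
      have c2 : Polynomial.C (2 : ZMod 5) = 2 := map_ofNat _ 2
      have c3 : Polynomial.C (3 : ZMod 5) = 3 := map_ofNat _ 3
      have c4 : Polynomial.C (4 : ZMod 5) = 4 := map_ofNat _ 4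
      have c5 : Polynomial.C (5 : ZMod 5) = 5 := map_ofNat _ 5
      rw [c5] at e
      rw [c1, c2, c3, c4]
      linear_combination (-2 * Polynomial.X ^ 3 + 7 * Polynomial.X ^ 2 - 10 * Polynomial.X + 5) * e
    have h2 := congrArg (Polynomial.aeval T) h1
    simp only [map_mul, map_sub, Polynomial.aeval_X, Polynomial.aeval_C, map_pow, map_one] at h2
    rw [h4, sub_self] at h2
    simpa using h2
  have happ : ∀ (l : ZMod 5) (w : W), (T - algebraMap (ZMod 5) (End (ZMod 5) W) l) w = T w - l • w := by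
    intro l w
    rw [LinearMap.sub_apply, Module.algebraMap_end_apply]
  have hmem : ∀ (l : ZMod 5) (w : W), w ∈ P → T w - l • w ∈ P := fun l w hw =>
    P.sub_mem (hT w hw) (P.smul_mem l hw)
  have key := congrArg (fun f : End (ZMod 5) W => f v) hpoly
  simp only [Module.End.mul_apply, happ, LinearMap.zero_apply] at key
  by_cases e4 : T v - (4 : ZMod 5) • v = 0
  · exact ⟨v, hv, hv0, 4, sub_eq_zero.1 e4⟩
  have m4 := hmem 4 v hv
  set v1 := T v - (4 : ZMod 5) • v with hv1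
  by_cases e3 : T v1 - (3 : ZMod 5) • v1 = 0
  · exact ⟨v1, m4, e4, 3, sub_eq_zero.1 e3⟩
  have m3 := hmem 3 v1 m4
  set v2 := T v1 - (3 : ZMod 5) • v1 with hv2
  by_cases e2 : T v2 - (2 : ZMod 5) • v2 = 0
  · exact ⟨v2, m3, e3, 2, sub_eq_zero.1 e2⟩
  have m2 := hmem 2 v2 m3
  set v3 := T v2 - (2 : ZMod 5) • v2 with hv3
  refine ⟨v3, m2, e2, 1, sub_eq_zero.1 ?_⟩
  convert key using 1

/-- a common eigenvector of `B`, `A ^ 2` and `H` -/
theorem Ops.exists_vec {A B H : End (ZMod 5) W} (h : Ops A B H) {w : W} (hw : w ≠ 0) :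
    ∃ v : W, v ≠ 0 ∧ B v = v ∧ ∃ m l : ZMod 5, (A ^ 2) v = m • v ∧ H v = l • v := by
  obtain ⟨v0, h0, hB0⟩ := exists_ker (B - 1) 5 (sub_one_pow_five h.B5) w hw
  have hB0' : B v0 = v0 := by
    rw [LinearMap.sub_apply, Module.End.one_apply, sub_eq_zero] at hB0
    exact hB0
  let P : Submodule (ZMod 5) W := LinearMap.ker (B - 1)
  have hP : ∀ v, v ∈ P ↔ B v = v := by
    intro v
    rw [LinearMap.mem_ker, LinearMap.sub_apply, Module.End.one_apply, sub_eq_zero]
  have hAP : ∀ v ∈ P, (A ^ 2) v ∈ P := by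
    intro v hv
    rw [hP] at hv ⊢
    have := congrArg (fun f : End (ZMod 5) W => f v) h.A2B
    simp only [Module.End.mul_apply] at this
    rw [hv] at this
    exact this.symm
  have hA8 : (A ^ 2) ^ 4 = 1 := by
    rw [← pow_mul, show 2 * 4 = 4 * 2 from rfl, pow_mul, h.A4, neg_one_sq]
  obtain ⟨v1, hv1, hv10, m, hm⟩ := exists_eig P (A ^ 2) hAP hA8 ((hP v0).2 hB0') h0
  let Q : Submodule (ZMod 5) W :=
    P ⊓ LinearMap.ker (A ^ 2 - algebraMap (ZMod 5) (End (ZMod 5) W) m)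
  have hQ : ∀ v, v ∈ Q ↔ B v = v ∧ (A ^ 2) v = m • v := by
    intro v
    rw [Submodule.mem_inf, hP, LinearMap.mem_ker, LinearMap.sub_apply,
      Module.algebraMap_end_apply, sub_eq_zero]
  have hHQ : ∀ v ∈ Q, H v ∈ Q := by
    intro v hv
    rw [hQ] at hv ⊢
    obtain ⟨hv1, hv2⟩ := hv
    constructor
    · have h1 := congrArg (fun f : End (ZMod 5) W => f v) h.HB
      simp only [Module.End.mul_apply] at h1
      rw [hv1] at h1
      have h2 : (B ^ 2) (H v) = H v := h1.symm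
      have h3 : (B ^ 6) (H v) = H v := by
        rw [show B ^ 6 = B ^ 2 * (B ^ 2 * B ^ 2) by rw [← pow_add, ← pow_add]]
        rw [Module.End.mul_apply, Module.End.mul_apply, h2, h2, h2]
      rw [pow_succ, h.B5, one_mul] at h3
      exact h3
    · have h1 := congrArg (fun f : End (ZMod 5) W => f v) h.A2H
      simp only [Module.End.mul_apply] at h1
      rw [h1, hv2, map_smul]
  obtain ⟨v2, hv2, hv20, l, hl⟩ := exists_eig Q H hHQ h.H4 ((hQ v1).2 ⟨(hP v1).1 hv1, hm⟩) hv10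
  obtain ⟨h5, h6⟩ := (hQ v2).1 hv2
  exact ⟨v2, hv20, h5, m, l, h6, hl⟩

/-- the vectors `e_i` -/
structure Vecs (A B : End (ZMod 5) W) (m l : ZMod 5) (v e0 e1 e2 e3 e4 : W) : Prop where
  v0 : v ≠ 0
  Bv : B v = v
  B0 : B e0 = e1
  B1 : B e1 = e2
  B2 : B e2 = e3
  B3 : B e3 = e4
  B4 : B e4 = e0
  Av : A v = e0
  A0 : A e0 = m • v
  A1 : A e1 = l • e2
  A2 : A e2 = (l ^ 3 * m) • e1
  A3 : A e3 = -((l ^ 3 * m) • e4)
  A4 : A e4 = -(l • e3)
  m2 : m ^ 2 = -1
  l4 : l ^ 4 = 1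

theorem smul_inj {a b : ZMod 5} {v : W} (hv : v ≠ 0) (h : a • v = b • v) : a = b := by
  have h1 : (a - b) • v = 0 := by rw [sub_smul, h, sub_self]
  rcases smul_eq_zero.1 h1 with h2 | h2
  · exact sub_eq_zero.1 h2
  · exact absurd h2 hv

theorem Ops.vecs {A B H : End (ZMod 5) W} (h : Ops A B H) {v : W} (hv : v ≠ 0) (hB : B v = v)
    {m l : ZMod 5} (hm : (A ^ 2) v = m • v) (hl : H v = l • v) :
    Vecs A B m l v (A v) (B (A v)) (B (B (A v))) (B (B (B (A v)))) (B (B (B (B (A v))))) := by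
  have hBk : ∀ k : ℕ, (B ^ k) v = v := by
    intro k
    induction k with
    | zero => rfl
    | succ k ih => rw [pow_succ, Module.End.mul_apply, hB, ih]
  have hH3 : (H ^ 3) v = (l ^ 3) • v := by
    rw [pow_succ, pow_succ, pow_one, Module.End.mul_apply, Module.End.mul_apply, hl, map_smul,
      map_smul, hl, map_smul, hl, smul_smul, smul_smul]
    congr 1
    ring
  have hH4 : (H ^ 4) v = (l ^ 4) • v := by
    rw [pow_succ, Module.End.mul_apply, hl, map_smul, hH3, smul_smul]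
    congr 1
    ring
  have hl4 : l ^ 4 = 1 := by
    rw [h.H4] at hH4
    refine smul_inj hv ?_
    rw [← hH4, one_smul]; rfl
  have hm2 : m ^ 2 = -1 := by
    have h1 : (A ^ 4) v = (m ^ 2) • v := by
      rw [show A ^ 4 = A ^ 2 * A ^ 2 by rw [← pow_add], Module.End.mul_apply, hm, map_smul, hm,
        smul_smul]
      congr 1
      ring
    rw [h.A4] at h1
    refine smul_inj hv ?_
    rw [← h1, neg_smul, one_smul]; rfl
  have hB5 : ∀ w, B (B (B (B (B w)))) = w := by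
    intro w
    have := congrArg (fun f : End (ZMod 5) W => f w) h.B5
    simpa only [pow_succ, pow_zero, one_mul, Module.End.mul_apply, Module.End.one_apply] using this
  have a1 := congrArg (fun f : End (ZMod 5) W => f v) h.r1
  have a2 := congrArg (fun f : End (ZMod 5) W => f v) h.r2
  have a3 := congrArg (fun f : End (ZMod 5) W => f v) h.r3
  have a4 := congrArg (fun f : End (ZMod 5) W => f v) h.r4
  have hA2 : A (A v) = m • v := by
    rw [← hm, pow_two]; rfl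
  refine ⟨hv, hB, rfl, rfl, rfl, rfl, hB5 _, rfl, hA2, ?_, ?_, ?_, ?_, hm2, hl4⟩
  · simp only [Module.End.mul_apply, hBk, hl, map_smul] at a1
    rw [a1, pow_two]; rfl
  · simp only [Module.End.mul_apply, hB, hm, hH3, map_smul] at a2
    simp only [pow_two, Module.End.mul_apply] at a2
    rw [a2, smul_smul, mul_comm]
  · simp only [Module.End.mul_apply, hBk, hm, hH3, map_smul, LinearMap.neg_apply] at a3
    simp only [pow_succ, pow_zero, one_mul, Module.End.mul_apply] at a3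
    rw [a3, smul_smul]
    congr 2
    ring
  · simp only [Module.End.mul_apply, hBk, hl, map_smul, LinearMap.neg_apply] at a4
    simp only [pow_succ, pow_zero, one_mul, Module.End.mul_apply] at a4
    rw [a4]

theorem Ops.sum_eq {A B H : End (ZMod 5) W} (h : Ops A B H) (hd : finrank (ZMod 5) W = 4) (w : W) :
    w + B w + B (B w) + B (B (B w)) + B (B (B (B w))) = 0 := by
  have h1 := sub_one_pow_four h.B5 hd
  have h2 : (B - 1) ^ 4 = 1 + B + B ^ 2 + B ^ 3 + B ^ 4 := by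
    have e : (B - 1) ^ 4 = (1 + B + B ^ 2 + B ^ 3 + B ^ 4) + (5 : ℕ) • (B ^ 2 - B - B ^ 3) := by
      noncomm_ring
    have h5 : (5 : ℕ) • (B ^ 2 - B - B ^ 3) = 0 := by
      refine LinearMap.ext fun w => ?_
      rw [LinearMap.smul_apply, five_smul]; rfl
    rw [e, h5, add_zero]
  rw [h2] at h1
  have h3 := congrArg (fun f : End (ZMod 5) W => f w) h1
  simp only [LinearMap.add_apply, Module.End.one_apply, pow_succ, pow_zero, one_mul,
    Module.End.mul_apply, LinearMap.zero_apply] at h3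
  exact h3

end Cfsg.Agent.R10.NGenMod
end

-- part: R10/NGenMod2
section
/-!
# The natural module, second part: the explicit form
-/

set_option autoImplicit false

namespace Cfsg.Agent.R10.NGenMod

open Module

variable {W : Type*} [AddCommGroup W] [Module (ZMod 5) W]

theorem mul_four (w : W) : (4 : ZMod 5) • w = -w := by
  rw [show (4 : ZMod 5) = -1 by decide, neg_smul, one_smul]

/-- applying `A` to the relation `∑ e_i = 0` -/
theorem Vecs.rel {A B : End (ZMod 5) W} {m l : ZMod 5} {v e0 e1 e2 e3 e4 : W}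
    (h : Vecs A B m l v e0 e1 e2 e3 e4) (hs : e0 + e1 + e2 + e3 + e4 = 0) :
    m • v + l • e2 + (l ^ 3 * m) • e1 - (l ^ 3 * m) • e4 - l • e3 = 0 := by
  have h1 := congrArg A hs
  rw [map_add, map_add, map_add, map_add, h.A0, h.A1, h.A2, h.A3, h.A4, map_zero] at h1
  rw [← h1]
  abel

/-- the two cases -/
theorem Vecs.cases {A B : End (ZMod 5) W} {m l : ZMod 5} {v e0 e1 e2 e3 e4 : W}
    (h : Vecs A B m l v e0 e1 e2 e3 e4) (hs : e0 + e1 + e2 + e3 + e4 = 0) :
    (l ^ 2 * m = 3) ∨ (l ^ 2 * m = 2 ∧ e2 + e4 = (2 : ZMod 5) • e3) := by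
  have h1 := h.rel hs
  have h2 := congrArg B h1
  simp only [map_add, map_sub, map_smul, h.Bv, h.B1, h.B2, h.B3, h.B4, map_zero] at h2
  have h3 : (2 * l + l ^ 3 * m) • e3 + (-l + 2 * (l ^ 3 * m)) • (e4 + e2) = 0 := by
    linear_combination (norm := module) h2 - h1 + (l ^ 3 * m) • hs
  have hl0 : l ≠ 0 := by
    intro h0
    have := h.l4
    rw [h0] at this
    exact absurd this (by decide)
  have hs2 : (l ^ 2 * m) ^ 2 = -1 := by
    have : (l ^ 2 * m) ^ 2 = l ^ 4 * m ^ 2 := by ring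
    rw [this, h.l4, h.m2, one_mul]
  have h23 : ∀ s : ZMod 5, s ^ 2 = -1 → s = 3 ∨ s = 2 := by decide
  rcases h23 _ hs2 with h4 | h4
  · exact Or.inl h4
  · right
    refine ⟨h4, ?_⟩
    have h5 : l • ((4 : ZMod 5) • e3 + (3 : ZMod 5) • (e4 + e2)) = 0 := by
      rw [← h3, smul_add, smul_smul, smul_smul]
      have c1 : l * 4 = 2 * l + l ^ 3 * m := by
        have : l ^ 3 * m = l * (l ^ 2 * m) := by ring
        rw [this, h4]; ring
      have c2 : l * 3 = -l + 2 * (l ^ 3 * m) := by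
        have : l ^ 3 * m = l * (l ^ 2 * m) := by ring
        rw [this, h4]; ring
      rw [c1, c2]
    have h6 : (4 : ZMod 5) • e3 + (3 : ZMod 5) • (e4 + e2) = 0 := by
      rcases smul_eq_zero.1 h5 with h7 | h7
      · exact absurd h7 hl0
      · exact h7
    have h7 : (2 : ZMod 5) • ((4 : ZMod 5) • e3 + (3 : ZMod 5) • (e4 + e2)) = 0 := by
      rw [h6, smul_zero]
    rw [smul_add, smul_smul, smul_smul, show (2 : ZMod 5) * 4 = 3 by decide,
      show (2 : ZMod 5) * 3 = 1 by decide, one_smul] at h7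
    have h8 : (2 : ZMod 5) • e3 = -((3 : ZMod 5) • e3) := by
      rw [← neg_smul]; congr 1
    rw [h8, add_comm e2 e4, ← sub_eq_zero, sub_neg_eq_add, add_comm]
    exact h7

/-- the operator of the 3-cycle `[a, b]` -/
def cyc3 (A B : End (ZMod 5) W) : End (ZMod 5) W := A ^ 7 * B ^ 4 * A * B

theorem Ops.A7 {A B H : End (ZMod 5) W} (h : Ops A B H) (w : W) : (A ^ 7) (A w) = w := by
  have h1 : A ^ 7 * A = 1 := by
    rw [← pow_succ, show 7 + 1 = 4 * 2 from rfl, pow_mul, h.A4, neg_one_sq]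
  have := congrArg (fun f : End (ZMod 5) W => f w) h1
  exact this

theorem Ops.B4' {A B H : End (ZMod 5) W} (h : Ops A B H) (w : W) : (B ^ 4) (B w) = w := by
  have h1 : B ^ 4 * B = 1 := by rw [← pow_succ, h.B5]
  have := congrArg (fun f : End (ZMod 5) W => f w) h1
  exact this

/-- a two-dimensional invariant subspace on which the 3-cycle has no fixed point is impossible -/
theorem Ops.no_plane {A B H : End (ZMod 5) W} (h : Ops A B H) (hd : finrank (ZMod 5) W = 4)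
    (hX : finrank (ZMod 5) (LinearMap.ker (cyc3 A B - 1)) = 2)
    (hXY : (cyc3 A B * (B * cyc3 A B * B ^ 4)) ^ 2 = -1)
    (P : Submodule (ZMod 5) W) (hP : finrank (ZMod 5) P = 2) (hBP : ∀ w ∈ P, B w ∈ P)
    (hXP : ∀ w ∈ P, cyc3 A B w ∈ P)
    (h3 : ∀ w ∈ P, cyc3 A B (cyc3 A B w) + cyc3 A B w + w = 0) : False := by
  set X := cyc3 A B with hXdef
  have : Module.Finite (ZMod 5) W := Module.finite_of_finrank_eq_succ hd
  have hrk := LinearMap.finrank_range_add_finrank_ker (X - 1)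
  rw [hX, hd] at hrk
  have hle : P ≤ LinearMap.range (X - 1) := by
    intro w hw
    have h4 := h3 w hw
    refine ⟨(3 : ZMod 5) • (X w + (2 : ZMod 5) • w), ?_⟩
    rw [LinearMap.sub_apply, Module.End.one_apply, map_smul, map_add, map_smul]
    have h5 : X (X w) = -(X w) - w := by
      rw [eq_sub_iff_add_eq, eq_neg_iff_add_eq_zero, add_assoc, add_comm w, ← add_assoc]
      exact h4
    rw [h5]
    have e1 : (3 : ZMod 5) • (-(X w) - w + (2 : ZMod 5) • X w) - (3 : ZMod 5) • (X w + (2 : ZMod 5) • w)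
        = (-9 : ZMod 5) • w := by module
    rw [e1, show (-9 : ZMod 5) = 1 by decide, one_smul]
  have heq : P = LinearMap.range (X - 1) :=
    Submodule.eq_of_le_of_finrank_eq hle (by omega)
  have hmem : ∀ w, X w - w ∈ P := by
    intro w
    rw [heq]
    exact ⟨w, rfl⟩
  have hB4P : ∀ w ∈ P, (B ^ 4) w ∈ P := by
    intro w hw
    simp only [pow_succ, pow_zero, one_mul, Module.End.mul_apply]
    exact hBP _ (hBP _ (hBP _ (hBP _ hw)))
  have hBB4 : ∀ w, B ((B ^ 4) w) = w := by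
    intro w
    have h1 : B * B ^ 4 = 1 := by rw [← pow_succ', h.B5]
    have := congrArg (fun f : End (ZMod 5) W => f w) h1
    exact this
  have hY : ∀ w, B (X ((B ^ 4) w)) - w ∈ P := by
    intro w
    have h1 := hBP _ (hmem ((B ^ 4) w))
    rw [map_sub, hBB4] at h1
    exact h1
  have hXYm : ∀ w, X (B (X ((B ^ 4) w))) - w ∈ P := by
    intro w
    have h1 := hXP _ (hY w)
    rw [map_sub] at h1
    have h2 := P.add_mem h1 (hmem w)
    rw [sub_add_sub_cancel] at h2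
    exact h2
  have hfin : ∀ w, w ∈ P := by
    intro w
    have h1 := congrArg (fun f : End (ZMod 5) W => f w) hXY
    simp only [pow_two, Module.End.mul_apply, LinearMap.neg_apply, Module.End.one_apply] at h1
    have h2 := hXYm (X (B (X ((B ^ 4) w))))
    have h3 := P.add_mem h2 (hXYm w)
    rw [sub_add_sub_cancel] at h3
    rw [h1] at h3
    have h4 : (-w - w : W) = (3 : ZMod 5) • w := by
      have : (3 : ZMod 5) • w = (-2 : ZMod 5) • w := by congr 1
      rw [this]; module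
    rw [h4] at h3
    have h5 := P.smul_mem (2 : ZMod 5) h3
    rw [smul_smul, show (2 : ZMod 5) * 3 = 1 by decide, one_smul] at h5
    exact h5
  have htop : P = ⊤ := eq_top_iff.2 fun w _ => hfin w
  rw [htop, finrank_top, hd] at hP
  omega


theorem zmod5_lm : ∀ m l : ZMod 5, m ^ 2 = -1 → l ^ 2 * m = 2 → (3 * l ^ 3 * m) * (3 * l ^ 3 * m) * m ^ 3 = 3 ∧
    m * m ^ 3 = 1 ∧ l * l ^ 3 = 1 := by decide

theorem Ops.not_two {A B H : End (ZMod 5) W} (h : Ops A B H) (hd : finrank (ZMod 5) W = 4)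
    (hX : finrank (ZMod 5) (LinearMap.ker (cyc3 A B - 1)) = 2)
    (hXY : (cyc3 A B * (B * cyc3 A B * B ^ 4)) ^ 2 = -1)
    {m l : ZMod 5} {v e0 e1 e2 e3 e4 : W} (hv : Vecs A B m l v e0 e1 e2 e3 e4)
    (hs : e0 + e1 + e2 + e3 + e4 = 0) : l ^ 2 * m = 3 := by
  rcases hv.cases hs with h2 | ⟨h2, h24⟩
  · exact h2
  exfalso
  obtain ⟨k1, k2, k3⟩ := zmod5_lm m l hv.m2 h2
  have q0 := congrArg B h24
  rw [map_add, map_smul, hv.B2, hv.B3, hv.B4] at q0
  have q1 := congrArg B q0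
  rw [map_add, map_smul, hv.B3, hv.B4, hv.B0] at q1
  have q2 := congrArg B q1
  rw [map_add, map_smul, hv.B4, hv.B0, hv.B1] at q2
  have q3 := congrArg B q2
  rw [map_add, map_smul, hv.B0, hv.B1, hv.B2] at q3
  have hrel := hv.rel hs
  -- `e1 = e0 + δ v`
  have hd1 : e1 = e0 + (3 * l ^ 3 * m) • v := by
    have c : l ^ 3 * m = l * (l ^ 2 * m) := by ring
    rw [h2] at c
    rw [c] at hrel
    have e2' : e2 = (2 : ZMod 5) • e1 - e0 := by rw [← q2]; abel
    have e3' : e3 = (3 : ZMod 5) • e1 - (2 : ZMod 5) • e0 := by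
      have : e3 = (2 : ZMod 5) • e2 - e1 := by rw [← q3]; abel
      rw [this, e2']; module
    have e4' : e4 = (4 : ZMod 5) • e1 - (3 : ZMod 5) • e0 := by
      have : e4 = (2 : ZMod 5) • e3 - e2 := by rw [← h24]; abel
      rw [this, e3', e2']; module
    rw [e2', e3', e4'] at hrel
    have r1 : m • v = (2 * l) • (e1 - e0) := by
      have : m • v - (7 * l) • (e1 - e0) = 0 := by
        rw [← hrel]; module
      have e7 : (7 : ZMod 5) * l = 2 * l := by congr 1
      rw [e7] at this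
      exact sub_eq_zero.1 this
    have r2 : (3 * l ^ 3 * m) • v = (6 : ZMod 5) • (e1 - e0) := by
      have : (3 * l ^ 3 * m) • v = (3 * l ^ 3) • (m • v) := by rw [smul_smul]
      rw [this, r1, smul_smul]
      congr 1
      have : 3 * l ^ 3 * (2 * l) = 6 * (l * l ^ 3) := by ring
      rw [this, k3, mul_one]
    rw [r2, show (6 : ZMod 5) = 1 by decide, one_smul]
    abel
  have he4 : e4 = e0 + (-(3 * l ^ 3 * m)) • v := by
    have : B e4 = B (e0 + (-(3 * l ^ 3 * m)) • v) := by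
      rw [hv.B4, map_add, hv.B0, map_smul, hv.Bv, hd1]; module
    have h5 := congrArg (fun w => (B ^ 4) w) this
    simp only [h.B4'] at h5
    exact h5
  set δ : ZMod 5 := 3 * l ^ 3 * m with hδ
  -- operators on the plane
  have A7e0 : (A ^ 7) e0 = v := by rw [← hv.Av]; exact h.A7 v
  have A7v : (A ^ 7) v = (m ^ 3) • e0 := by
    have h5 : (A ^ 7) (A ((m ^ 3) • e0)) = (m ^ 3) • e0 := h.A7 _
    rw [map_smul, hv.A0, smul_smul] at h5
    rw [show m ^ 3 * m = 1 by rw [mul_comm]; exact k2, one_smul] at h5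
    exact h5
  have B4e0 : (B ^ 4) e0 = e4 := by
    rw [← hv.B4]; exact h.B4' _
  have B4v : (B ^ 4) v = v := by
    have := h.B4' v
    rwa [hv.Bv] at this
  have Xv : cyc3 A B v = v - (δ * m ^ 3) • e0 := by
    simp only [cyc3, Module.End.mul_apply]
    rw [hv.Bv, hv.Av, B4e0, he4, map_add, map_smul, A7e0, A7v]
    module
  have Xe0 : cyc3 A B e0 = δ • v + (3 : ZMod 5) • e0 := by
    simp only [cyc3, Module.End.mul_apply]
    rw [hv.B0, hd1, map_add, map_smul, hv.A0, hv.Av, map_add, map_smul, map_smul, B4v, B4e0, he4, map_add,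
      map_smul, map_smul, map_add, map_smul, A7v, A7e0]
    rw [smul_smul, k2]
    have : (1 : ZMod 5) • e0 + δ • (v + -δ • m ^ 3 • e0) = δ • v + (1 - δ * δ * m ^ 3) • e0 := by module
    rw [this, k1]
    congr 1
  have hne : ∀ c : ZMod 5, e0 ≠ c • v := by
    intro c hc
    have h5 : B e0 = e0 := by rw [hc, map_smul, hv.Bv]
    rw [hv.B0, hd1] at h5
    have h6 : δ • v = 0 := by
      have := congrArg (fun w => w - e0) h5
      simp only [add_sub_cancel_left, sub_self] at this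
      exact this
    rcases smul_eq_zero.1 h6 with h7 | h7
    · rw [h7, zero_mul, zero_mul] at k1
      exact absurd k1 (by decide)
    · exact hv.v0 h7
  have hli : LinearIndependent (ZMod 5) ![v, e0] := by
    rw [LinearIndependent.pair_iff]
    intro x y hxy
    have hy : y = 0 := by
      by_contra hy
      apply hne (-(y⁻¹ * x))
      have h5 : y⁻¹ • (x • v + y • e0) = 0 := by rw [hxy, smul_zero]
      rw [smul_add, smul_smul, smul_smul, inv_mul_cancel₀ hy, one_smul] at h5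
      rw [neg_smul, eq_neg_iff_add_eq_zero, add_comm]
      exact h5
    rw [hy, zero_smul, add_zero] at hxy
    rcases smul_eq_zero.1 hxy with h7 | h7
    · exact ⟨h7, hy⟩
    · exact absurd h7 hv.v0
  let P : Submodule (ZMod 5) W := Submodule.span (ZMod 5) (Set.range ![v, e0])
  have hP : finrank (ZMod 5) P = 2 := by
    have := finrank_span_eq_card hli
    simpa using this
  have hmem : ∀ w, w ∈ P ↔ ∃ x y : ZMod 5, w = x • v + y • e0 := by
    intro w
    have : P = Submodule.span (ZMod 5) {v, e0} := by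
      simp only [P, Matrix.range_cons, Matrix.range_empty, Set.union_empty, Set.singleton_union]
    rw [this, Submodule.mem_span_pair]
    constructor
    · rintro ⟨x, y, hxy⟩; exact ⟨x, y, hxy.symm⟩
    · rintro ⟨x, y, hxy⟩; exact ⟨x, y, hxy.symm⟩
  refine h.no_plane hd hX hXY P hP ?_ ?_ ?_
  · intro w hw
    obtain ⟨x, y, rfl⟩ := (hmem w).1 hw
    rw [hmem]
    refine ⟨x + y * δ, y, ?_⟩
    rw [map_add, map_smul, map_smul, hv.Bv, hv.B0, hd1]
    module
  · intro w hw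
    obtain ⟨x, y, rfl⟩ := (hmem w).1 hw
    rw [hmem]
    refine ⟨x + y * δ, -(x * (δ * m ^ 3)) + 3 * y, ?_⟩
    rw [map_add, map_smul, map_smul, Xv, Xe0]
    module
  · intro w hw
    obtain ⟨x, y, rfl⟩ := (hmem w).1 hw
    have z1 : cyc3 A B (cyc3 A B v) + cyc3 A B v + v = 0 := by
      rw [Xv, map_sub, map_smul, Xv, Xe0]
      have : v - (δ * m ^ 3) • e0 - (δ * m ^ 3) • (δ • v + (3 : ZMod 5) • e0) + (v - (δ * m ^ 3) • e0) + v
        = (3 - δ * δ * m ^ 3) • v + (-5 * (δ * m ^ 3)) • e0 := by module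
      rw [this, k1, sub_self, zero_smul, zero_add, show (-5 : ZMod 5) = 0 by decide, zero_mul, zero_smul]
    have z2 : cyc3 A B (cyc3 A B e0) + cyc3 A B e0 + e0 = 0 := by
      rw [Xe0, map_add, map_smul, map_smul, Xv, Xe0]
      have : δ • (v - (δ * m ^ 3) • e0) + (3 : ZMod 5) • (δ • v + (3 : ZMod 5) • e0) + (δ • v + (3 : ZMod 5) • e0) + e0
        = (5 * δ) • v + (13 - δ * δ * m ^ 3) • e0 := by module
      rw [this, k1, show (13 : ZMod 5) - 3 = 0 by decide, show (5 : ZMod 5) = 0 by decide, zero_mul, zero_smul, zero_smul,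
        zero_add]
    have : cyc3 A B (cyc3 A B (x • v + y • e0)) + cyc3 A B (x • v + y • e0) + (x • v + y • e0)
      = x • (cyc3 A B (cyc3 A B v) + cyc3 A B v + v) + y • (cyc3 A B (cyc3 A B e0) + cyc3 A B e0 + e0) := by
      simp only [map_add, map_smul]
      module
    rw [this, z1, z2, smul_zero, smul_zero, add_zero]

end Cfsg.Agent.R10.NGenMod
end

-- part: R10/NGenMod3
section
/-!
# The natural module, third part: coordinates
-/

set_option autoImplicit false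

namespace Cfsg.Agent.R10.NGenMod

open Module

variable {W : Type*} [AddCommGroup W] [Module (ZMod 5) W]

/-- the linear map from coordinates to `W` -/
def lin (e1 e2 e3 e4 : W) : (Fin 4 → ZMod 5) →ₗ[ZMod 5] W where
  toFun x := x 0 • e1 + x 1 • e2 + x 2 • e3 + x 3 • e4
  map_add' x y := by simp only [Pi.add_apply]; module
  map_smul' c x := by simp only [Pi.smul_apply, smul_eq_mul, RingHom.id_apply]; module

theorem lin_apply (e1 e2 e3 e4 : W) (x : Fin 4 → ZMod 5) :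
    lin e1 e2 e3 e4 x = x 0 • e1 + x 1 • e2 + x 2 • e3 + x 3 • e4 := rfl

/-- the operator `B - 1` in coordinates -/
def nb (x : Fin 4 → ZMod 5) : Fin 4 → ZMod 5 :=
  ![-x 3 - x 0, x 0 - x 3 - x 1, x 1 - x 3 - x 2, x 2 - x 3 - x 3]

theorem Vecs.lin_nb {A B : End (ZMod 5) W} {m l : ZMod 5} {v e0 e1 e2 e3 e4 : W}
    (h : Vecs A B m l v e0 e1 e2 e3 e4) (hs : e0 + e1 + e2 + e3 + e4 = 0) (x : Fin 4 → ZMod 5) :
    lin e1 e2 e3 e4 (nb x) = B (lin e1 e2 e3 e4 x) - lin e1 e2 e3 e4 x := by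
  have he0 : e0 = -(e1 + e2 + e3 + e4) := by
    rw [eq_neg_iff_add_eq_zero, ← hs]; abel
  simp only [lin_apply, nb, map_add, map_smul, h.B1, h.B2, h.B3, h.B4, Matrix.cons_val_zero, Matrix.cons_val_one,
    Matrix.cons_val]
  rw [he0]
  module

theorem nb_chain : ∀ a b c d : ZMod 5, ![a, b, c, d] ≠ 0 →
    (∃ k < 4, ∃ r : ZMod 5, r ≠ 0 ∧ (nb^[k]) ![a, b, c, d] = r • ![1, 2, 3, 4]) := by
  decide +kernel

theorem Vecs.lin_injective {A B : End (ZMod 5) W} {m l : ZMod 5} {v e0 e1 e2 e3 e4 : W}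
    (h : Vecs A B m l v e0 e1 e2 e3 e4) (hs : e0 + e1 + e2 + e3 + e4 = 0) (h3 : l ^ 2 * m = 3) :
    Function.Injective (lin e1 e2 e3 e4) := by
  -- `v` is a multiple of the fixed vector
  have hk : lin e1 e2 e3 e4 ![1, 2, 3, 4] ≠ 0 := by
    intro h0
    have hrel := h.rel hs
    have c : l ^ 3 * m = l * (l ^ 2 * m) := by ring
    rw [h3] at c
    rw [c] at hrel
    have h1 : m • v = (-(3 * l)) • lin e1 e2 e3 e4 ![1, 2, 3, 4] := by
      have : m • v = -(l • e2 + (l * 3) • e1 - (l * 3) • e4 - l • e3) := by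
        rw [eq_neg_iff_add_eq_zero, ← hrel]; abel
      rw [this, lin_apply]
      simp only [Matrix.cons_val_zero, Matrix.cons_val_one, Matrix.cons_val]
      have e : -(l • e2 + (l * 3) • e1 - (l * 3) • e4 - l • e3) - (-(3 * l)) • ((1 : ZMod 5) • e1 + (2 : ZMod 5) • e2 +
        (3 : ZMod 5) • e3 + (4 : ZMod 5) • e4) = (5 : ZMod 5) • (l • e2 + (2 * l) • e3 + (3 * l) • e4) := by module
      rw [← sub_eq_zero, e, show (5 : ZMod 5) = 0 by decide, zero_smul]
    rw [h0, smul_zero] at h1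
    rcases smul_eq_zero.1 h1 with h2 | h2
    · have := h.m2
      rw [h2] at this
      exact absurd this (by decide)
    · exact h.v0 h2
  rw [injective_iff_map_eq_zero]
  intro x hx
  by_contra hne
  have hx' : x = ![x 0, x 1, x 2, x 3] := by
    funext i; fin_cases i <;> rfl
  obtain ⟨k, -, r, hr, hkr⟩ := nb_chain (x 0) (x 1) (x 2) (x 3) (by rw [← hx']; exact hne)
  rw [← hx'] at hkr
  have hall : ∀ k : ℕ, lin e1 e2 e3 e4 ((nb^[k]) x) = 0 := by
    intro k
    induction k with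
    | zero => exact hx
    | succ k ih => rw [Function.iterate_succ_apply', h.lin_nb hs, ih, map_zero, sub_zero]
  have h2 := hall k
  rw [hkr, map_smul] at h2
  rcases smul_eq_zero.1 h2 with h3 | h3
  · exact hr h3
  · exact hk h3

/-- coordinates -/
noncomputable def Vecs.equiv {A B : End (ZMod 5) W} {m l : ZMod 5} {v e0 e1 e2 e3 e4 : W}
    (h : Vecs A B m l v e0 e1 e2 e3 e4) (hs : e0 + e1 + e2 + e3 + e4 = 0) (h3 : l ^ 2 * m = 3)
    (hd : finrank (ZMod 5) W = 4) : (Fin 4 → ZMod 5) ≃ₗ[ZMod 5] W :=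
  have : Module.Finite (ZMod 5) W := Module.finite_of_finrank_eq_succ hd
  LinearEquiv.ofInjectiveOfFinrankEq (lin e1 e2 e3 e4) (h.lin_injective hs h3) (by simp [hd])

theorem Vecs.equiv_apply {A B : End (ZMod 5) W} {m l : ZMod 5} {v e0 e1 e2 e3 e4 : W}
    (h : Vecs A B m l v e0 e1 e2 e3 e4) (hs : e0 + e1 + e2 + e3 + e4 = 0) (h3 : l ^ 2 * m = 3)
    (hd : finrank (ZMod 5) W = 4) (x : Fin 4 → ZMod 5) : h.equiv hs h3 hd x = lin e1 e2 e3 e4 x := rfl

end Cfsg.Agent.R10.NGenMod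
end

-- part: R10/NGenMod4
section
/-!
# The natural module, fourth part: the invariant form and the matrices of `A` and `B`
-/

set_option autoImplicit false

namespace Cfsg.Agent.R10.NGenMod

open Module

variable {W : Type*} [AddCommGroup W] [Module (ZMod 5) W]

/-- the invariant form -/
structure Form (A B : End (ZMod 5) W) (β : W →ₗ[ZMod 5] W →ₗ[ZMod 5] ZMod 5) : Prop where
  self : ∀ w, β w w = 0
  nondeg : ∀ v, (∀ w, β v w = 0) → v = 0
  hA : ∀ v w, β (A v) (A w) = 3 * β v w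
  hB : ∀ v w, β (B v) (B w) = β v w

theorem Form.symm {A B : End (ZMod 5) W} {β : W →ₗ[ZMod 5] W →ₗ[ZMod 5] ZMod 5} (h : Form A B β) (v w : W) :
    β w v = -β v w := by
  have h1 := h.self (v + w)
  simp only [map_add, LinearMap.add_apply, h.self, zero_add, add_zero] at h1
  rw [eq_neg_iff_add_eq_zero, ← h1]

/-- the form in coordinates -/
def J (x y : Fin 4 → ZMod 5) : ZMod 5 :=
  2 * (x 0 * y 1 - x 1 * y 0) + (x 0 * y 2 - x 2 * y 0) - (x 0 * y 3 - x 3 * y 0) +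
    2 * (x 1 * y 2 - x 2 * y 1) + (x 1 * y 3 - x 3 * y 1) + 2 * (x 2 * y 3 - x 3 * y 2)

theorem Vecs.form {A B : End (ZMod 5) W} {m l : ZMod 5} {v e0 e1 e2 e3 e4 : W}
    (h : Vecs A B m l v e0 e1 e2 e3 e4) (hs : e0 + e1 + e2 + e3 + e4 = 0) (h3 : l ^ 2 * m = 3)
    (hd : finrank (ZMod 5) W = 4) {β : W →ₗ[ZMod 5] W →ₗ[ZMod 5] ZMod 5} (hβ : Form A B β) :
    m = 2 ∧ ∃ r : ZMod 5, r ≠ 0 ∧ ∀ x y, β (lin e1 e2 e3 e4 x) (lin e1 e2 e3 e4 y) = r * J x y := by
  -- `β v e_i`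
  have b1 : β v e1 = β v e0 := by rw [← hβ.hB v e0, h.Bv, h.B0]
  have b2 : β v e2 = β v e0 := by rw [← b1, ← hβ.hB v e1, h.Bv, h.B1]
  have b3 : β v e3 = β v e0 := by rw [← b2, ← hβ.hB v e2, h.Bv, h.B2]
  have b4 : β v e4 = β v e0 := by rw [← b3, ← hβ.hB v e3, h.Bv, h.B3]
  have hb : β v e0 ≠ 0 := by
    intro h0
    apply h.v0
    apply hβ.nondeg
    intro w
    obtain ⟨x, rfl⟩ := (h.equiv hs h3 hd).surjective w
    rw [h.equiv_apply, lin_apply]
    simp only [map_add, map_smul, b1, b2, b3, b4, h0, smul_zero, add_zero]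
  have p1 : β e1 e2 = β e0 e1 := by rw [← hβ.hB e0 e1, h.B0, h.B1]
  have p2 : β e2 e3 = β e0 e1 := by rw [← p1, ← hβ.hB e1 e2, h.B1, h.B2]
  have p3 : β e3 e4 = β e0 e1 := by rw [← p2, ← hβ.hB e2 e3, h.B2, h.B3]
  have r1 : β e2 e4 = β e1 e3 := by rw [← hβ.hB e1 e3, h.B1, h.B3]
  have r2 : β e3 e0 = β e1 e3 := by rw [← r1, ← hβ.hB e2 e4, h.B2, h.B4]
  have r3 : β e4 e1 = β e1 e3 := by rw [← r2, ← hβ.hB e3 e0, h.B3, h.B0]
  have r4 : β e1 e4 = -β e1 e3 := by rw [hβ.symm e4 e1, r3]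
  have hl : l ≠ 0 := by
    intro h0; rw [h0, zero_pow (by norm_num), zero_mul] at h3
    exact absurd h3 (by decide)
  have hm : m ≠ 0 := by
    intro h0; rw [h0, mul_zero] at h3
    exact absurd h3 (by decide)
  have q1 : m * l * β v e0 = 3 * β e0 e1 := by
    rw [← hβ.hA e0 e1, h.A0, h.A1]
    simp only [map_smul, LinearMap.smul_apply, smul_eq_mul, b2]
    ring
  have hp : β e0 e1 ≠ 0 := by
    intro h0
    rw [h0, mul_zero] at q1
    exact mul_ne_zero (mul_ne_zero hm hl) hb q1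
  have q2 : -(l ^ 4 * m) * β e0 e1 = 3 * β e0 e1 := by
    have := hβ.hA e1 e2
    rw [p1] at this
    rw [← this, h.A1, h.A2]
    simp only [map_smul, LinearMap.smul_apply, smul_eq_mul, hβ.symm e1 e2, p1]
    ring
  have hm2 : m = 2 := by
    have := mul_right_cancel₀ hp q2
    rw [h.l4, one_mul] at this
    have h5 : m = -3 := by rw [← this, neg_neg]
    rw [h5]; decide
  have hl2 : l ^ 2 = 4 := by
    rw [hm2] at h3
    have : l ^ 2 = 3 * (l ^ 2 * 2) := by
      have : (3 : ZMod 5) * (l ^ 2 * 2) = 6 * l ^ 2 := by ring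
      rw [this, show (6 : ZMod 5) = 1 by decide, one_mul]
    rw [this, h3]; decide
  have q3 : β e0 e1 = 2 * β e1 e3 := by
    have h5 := hβ.hA e1 e4
    rw [h.A1, h.A4] at h5
    simp only [map_smul, map_neg, LinearMap.smul_apply, smul_eq_mul, p2, r4] at h5
    have h6 : l ^ 2 * β e0 e1 = 3 * β e1 e3 := by linear_combination -h5
    rw [hl2] at h6
    have h7 : (4 * 4 : ZMod 5) * β e0 e1 = 4 * (3 * β e1 e3) := by rw [mul_assoc, h6]
    rw [show (4 * 4 : ZMod 5) = 1 by decide, one_mul] at h7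
    rw [h7, ← mul_assoc]; congr 1
  refine ⟨hm2, β e1 e3, ?_, ?_⟩
  · intro h0
    rw [h0, mul_zero] at q3
    exact hp q3
  · intro x y
    have s2 : β e2 e1 = -β e0 e1 := by rw [hβ.symm e1 e2, p1]
    have s3 : β e3 e1 = -β e1 e3 := by rw [hβ.symm e1 e3]
    have s5 : β e3 e2 = -β e0 e1 := by rw [hβ.symm e2 e3, p2]
    have s6 : β e4 e2 = -β e1 e3 := by rw [hβ.symm e2 e4, r1]
    have s7 : β e4 e3 = -β e0 e1 := by rw [hβ.symm e3 e4, p3]
    simp only [lin_apply, map_add, LinearMap.add_apply, map_smul, LinearMap.smul_apply, smul_eq_mul, hβ.self, p1, p2,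
      p3, r1, r3, r4, s2, s3, s5, s6, s7, q3, J]
    ring

/-- the matrices in the basis `e_1, …, e_4` -/
def MA (x : Fin 4 → ZMod 5) : Fin 4 → ZMod 5 := ![4 * x 1, 3 * x 0, 2 * x 3, x 2]

def MB (x : Fin 4 → ZMod 5) : Fin 4 → ZMod 5 := ![-x 3, x 0 - x 3, x 1 - x 3, x 2 - x 3]

theorem Vecs.lin_MB {A B : End (ZMod 5) W} {m l : ZMod 5} {v e0 e1 e2 e3 e4 : W}
    (h : Vecs A B m l v e0 e1 e2 e3 e4) (hs : e0 + e1 + e2 + e3 + e4 = 0) (x : Fin 4 → ZMod 5) :
    lin e1 e2 e3 e4 (MB x) = B (lin e1 e2 e3 e4 x) := by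
  have he0 : e0 = -(e1 + e2 + e3 + e4) := by
    rw [eq_neg_iff_add_eq_zero, ← hs]; abel
  simp only [lin_apply, MB, map_add, map_smul, h.B1, h.B2, h.B3, h.B4, Matrix.cons_val_zero, Matrix.cons_val_one,
    Matrix.cons_val]
  rw [he0]
  module

theorem Vecs.lin_MA {A B : End (ZMod 5) W} {v e0 e1 e2 e3 e4 : W}
    (h : Vecs A B 2 3 v e0 e1 e2 e3 e4) (x : Fin 4 → ZMod 5) :
    lin e1 e2 e3 e4 (MA x) = A (lin e1 e2 e3 e4 x) := by
  simp only [lin_apply, MA, map_add, map_smul, h.A1, h.A2, h.A3, h.A4, Matrix.cons_val_zero, Matrix.cons_val_one,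
    Matrix.cons_val]
  rw [show (3 ^ 3 * 2 : ZMod 5) = 4 by decide, ← neg_smul, ← neg_smul, show (-4 : ZMod 5) = 1 by decide,
    show (-3 : ZMod 5) = 2 by decide]
  module

theorem Vecs.lin_MA' {A B : End (ZMod 5) W} {v e0 e1 e2 e3 e4 : W}
    (h : Vecs A B 2 2 v e0 e1 e2 e3 e4) (x : Fin 4 → ZMod 5) :
    lin e1 e2 e3 e4 (MA x) = (-A) (lin e1 e2 e3 e4 x) := by
  simp only [LinearMap.neg_apply, lin_apply, MA, map_add, map_smul, h.A1, h.A2, h.A3, h.A4, Matrix.cons_val_zero,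
    Matrix.cons_val_one, Matrix.cons_val]
  rw [show (2 ^ 3 * 2 : ZMod 5) = 1 by decide, show (4 : ZMod 5) = -1 by decide, show (3 : ZMod 5) = -2 by decide]
  module

/-- the result -/
structure Coord (A B : End (ZMod 5) W) (β : W →ₗ[ZMod 5] W →ₗ[ZMod 5] ZMod 5)
    (Φ : (Fin 4 → ZMod 5) ≃ₗ[ZMod 5] W) (r : ZMod 5) : Prop where
  hA : ∀ x, A (Φ x) = Φ (MA x)
  hB : ∀ x, B (Φ x) = Φ (MB x)
  hβ : ∀ x y, β (Φ x) (Φ y) = r * J x y
  r0 : r ≠ 0

theorem Ops.coord {A B H : End (ZMod 5) W} (h : Ops A B H) (hd : finrank (ZMod 5) W = 4)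
    (hX : finrank (ZMod 5) (LinearMap.ker (cyc3 A B - 1)) = 2)
    (hXY : (cyc3 A B * (B * cyc3 A B * B ^ 4)) ^ 2 = -1)
    {β : W →ₗ[ZMod 5] W →ₗ[ZMod 5] ZMod 5} (hβ : Form A B β) :
    ∃ Φ : (Fin 4 → ZMod 5) ≃ₗ[ZMod 5] W, ∃ r : ZMod 5, Coord A B β Φ r ∨ Coord (-A) B β Φ r := by
  obtain ⟨w, hw⟩ : ∃ w : W, w ≠ 0 := by
    by_contra hcon
    push Not at hcon
    have : Subsingleton W := ⟨fun a b => by rw [hcon a, hcon b]⟩
    rw [Module.finrank_zero_of_subsingleton] at hd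
    exact absurd hd (by norm_num)
  obtain ⟨v, hv0, hBv, m, l, hm, hl⟩ := h.exists_vec hw
  have hv := h.vecs hv0 hBv hm hl
  have hs := h.sum_eq hd (A v)
  have h3 := h.not_two hd hX hXY hv hs
  obtain ⟨rfl, r, hr, hJ⟩ := hv.form hs h3 hd hβ
  have hl : ∀ l : ZMod 5, l ^ 2 * 2 = 3 → l = 3 ∨ l = 2 := by decide
  have hB' : ∀ x, B (hv.equiv hs h3 hd x) = hv.equiv hs h3 hd (MB x) := fun x => (hv.lin_MB hs x).symm
  refine ⟨hv.equiv hs h3 hd, r, ?_⟩
  rcases hl l h3 with rfl | rfl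
  · exact Or.inl ⟨fun x => (hv.lin_MA x).symm, hB', hJ, hr⟩
  · exact Or.inr ⟨fun x => (hv.lin_MA' x).symm, hB', hJ, hr⟩

end Cfsg.Agent.R10.NGenMod
end

-- part: R10/NGenMod5
section
/-!
# The natural module, fifth part: the matrix of `z`
-/

set_option autoImplicit false

namespace Cfsg.Agent.R10.NGenMod

open Module

theorem all4 {P : (Fin 4 → ZMod 5) → Prop} (h : ∀ a b c d : ZMod 5, P ![a, b, c, d]) (x : Fin 4 → ZMod 5) : P x := by
  have hx : x = ![x 0, x 1, x 2, x 3] := by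
    funext i; fin_cases i <;> rfl
  rw [hx]
  exact h _ _ _ _

def M2 (x : Fin 4 → ZMod 5) : Fin 4 → ZMod 5 :=
  ![x 0 + 4 * x 3, 2 * x 0 + 4 * x 2 + 4 * x 3, 3 * x 0 + 3 * x 1 + 4 * x 3, 4 * x 0 + 4 * x 3]

def M3 (x : Fin 4 → ZMod 5) : Fin 4 → ZMod 5 :=
  ![3 * x 0 + x 1, 3 * x 0 + 2 * x 1, 3 * x 0 + 3 * x 1 + 4 * x 3, 3 * x 0 + 4 * x 1 + 3 * x 2]

def M4 (x : Fin 4 → ZMod 5) : Fin 4 → ZMod 5 :=
  ![2 * x 1 + x 2 + 2 * x 3, x 0 + 2 * x 2 + 2 * x 3, 3 * x 2 + 2 * x 3, 4 * x 2 + 2 * x 3]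

def MZ (x : Fin 4 → ZMod 5) : Fin 4 → ZMod 5 :=
  ![4 * x 0 + 3 * x 2 + 4 * x 3, x 1 + 4 * x 2 + x 3, 3 * x 0 + 3 * x 1 + 2 * x 2 + 4 * x 3,
    3 * x 0 + 4 * x 1 + 3 * x 2 + 3 * x 3]

theorem M2_eq : ∀ x, MB (MA (MB (MB (MB (MB x))))) = M2 x := all4 (by decide +kernel)

theorem M3_eq : ∀ x, MB (MB (MA (MB (MB (MB x))))) = M3 x := all4 (by decide +kernel)

theorem M4_eq : ∀ x, MB (MB (MB (MA (MB (MB x))))) = M4 x := all4 (by decide +kernel)

theorem ker_Q : ∀ x, MA (M2 (M3 x)) = -x → ∃ c : ZMod 5, x = c • ![0, 1, 3, 4] := all4 (by decide +kernel)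

theorem MA_smul (c : ZMod 5) (x : Fin 4 → ZMod 5) : MA (c • x) = c • MA x := by
  funext i; fin_cases i <;> simp [MA] <;> ring

theorem M2_smul (c : ZMod 5) (x : Fin 4 → ZMod 5) : M2 (c • x) = c • M2 x := by
  funext i; fin_cases i <;> simp [M2] <;> ring

theorem M3_smul (c : ZMod 5) (x : Fin 4 → ZMod 5) : M3 (c • x) = c • M3 x := by
  funext i; fin_cases i <;> simp [M3] <;> ring

theorem M4_smul (c : ZMod 5) (x : Fin 4 → ZMod 5) : M4 (c • x) = c • M4 x := by
  funext i; fin_cases i <;> simp [M4] <;> ring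

theorem MZ_smul (c : ZMod 5) (x : Fin 4 → ZMod 5) : MZ (c • x) = c • MZ x := by
  funext i; fin_cases i <;> simp [MZ] <;> ring

theorem decomp : ∀ x : Fin 4 → ZMod 5, x = (x 1 + 2 * x 3) • ![0, 1, 0, 0] + (4 * x 0 + 4 * x 3) • MA ![0, 1, 0, 0] +
    (2 * x 2 + x 3) • M2 ![0, 1, 0, 0] + (4 * x 3) • M3 ![0, 1, 0, 0] := all4 (by decide +kernel)

theorem MZ_decomp : ∀ x : Fin 4 → ZMod 5, MZ x = (x 1 + 2 * x 3) • ![0, 1, 3, 4] - (4 * x 0 + 4 * x 3) • MA ![0, 1, 3, 4] -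
    (2 * x 2 + x 3) • M2 ![0, 1, 3, 4] - (4 * x 3) • M3 ![0, 1, 3, 4] := all4 (by decide +kernel)

/-- uniqueness of the matrix of `z` -/
theorem eq_MZ (Z : (Fin 4 → ZMod 5) →ₗ[ZMod 5] (Fin 4 → ZMod 5)) (h1 : ∀ x, MA (Z x) = -Z (MA x))
    (h2 : ∀ x, M2 (Z x) = -Z (M2 x)) (h3 : ∀ x, M3 (Z x) = -Z (M3 x))
    (h4 : ∀ x, M4 (Z (M4 (Z (M4 (Z (MA (MA x))))))) = x) (x : Fin 4 → ZMod 5) : Z x = MZ x := by
  have k0 : MA (M2 (M3 (Z ![0, 1, 0, 0]))) = -Z ![0, 1, 0, 0] := by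
    have m2 : ∀ x, M2 (-x) = -M2 x := fun x => by
      have := M2_smul (-1) x
      rwa [neg_smul, one_smul, neg_smul, one_smul] at this
    have m1 : ∀ x, MA (-x) = -MA x := fun x => by
      have := MA_smul (-1) x
      rwa [neg_smul, one_smul, neg_smul, one_smul] at this
    rw [h3, m2, h2, m1, m1, h1, neg_neg]
    congr 2
  obtain ⟨c, hc⟩ := ker_Q _ k0
  have key : ∀ x, Z x = c • MZ x := by
    intro x
    rw [decomp x, map_add, map_add, map_add, map_smul, map_smul, map_smul, map_smul]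
    rw [neg_eq_iff_eq_neg.1 (h1 _).symm, neg_eq_iff_eq_neg.1 (h2 _).symm, neg_eq_iff_eq_neg.1 (h3 _).symm, hc, MA_smul, M2_smul,
      M3_smul, ← decomp x, MZ_decomp x]
    module
  have hc3 : c ^ 3 = 1 := by
    have h5 := congrFun (h4 ![0, 1, 0, 0]) 1
    simp only [key, M4_smul, MZ_smul] at h5
    have h6 : M4 (MZ (M4 (MZ (M4 (MZ (MA (MA ![0, 1, 0, 0]))))))) = ![0, 1, 0, 0] := by decide
    rw [h6] at h5
    simp only [Pi.smul_apply, smul_eq_mul, Matrix.cons_val_one, Matrix.cons_val_zero, mul_one] at h5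
    rw [← h5]; ring
  have h1 : ∀ c : ZMod 5, c ^ 3 = 1 → c = 1 := by decide
  rw [key, h1 c hc3, one_smul]

variable {W : Type*} [AddCommGroup W] [Module (ZMod 5) W]

/-- the operator of `z` in coordinates -/
theorem Coord.hZ {A B Z : End (ZMod 5) W} {β : W →ₗ[ZMod 5] W →ₗ[ZMod 5] ZMod 5}
    {Φ : (Fin 4 → ZMod 5) ≃ₗ[ZMod 5] W} {r : ZMod 5} (h : Coord A B β Φ r)
    (h1 : A * Z = -(Z * A)) (h2 : (B * A * B ^ 4) * Z = -(Z * (B * A * B ^ 4)))
    (h3 : (B ^ 2 * A * B ^ 3) * Z = -(Z * (B ^ 2 * A * B ^ 3)))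
    (h4 : ((B ^ 3 * A * B ^ 2) * Z) ^ 3 * A ^ 2 = 1) (x : Fin 4 → ZMod 5) : Z (Φ x) = Φ (MZ x) := by
  have e2 : ∀ x, (B * A * B ^ 4) (Φ x) = Φ (M2 x) := by
    intro x
    simp only [Module.End.mul_apply, pow_succ, pow_zero, one_mul, h.hA, h.hB, M2_eq]
  have e3 : ∀ x, (B ^ 2 * A * B ^ 3) (Φ x) = Φ (M3 x) := by
    intro x
    simp only [Module.End.mul_apply, pow_succ, pow_zero, one_mul, h.hA, h.hB, M3_eq]
  have e4 : ∀ x, (B ^ 3 * A * B ^ 2) (Φ x) = Φ (M4 x) := by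
    intro x
    simp only [Module.End.mul_apply, pow_succ, pow_zero, one_mul, h.hA, h.hB, M4_eq]
  let Z' : (Fin 4 → ZMod 5) →ₗ[ZMod 5] (Fin 4 → ZMod 5) := Φ.symm.toLinearMap ∘ₗ Z ∘ₗ Φ.toLinearMap
  have hZ' : ∀ x, Z (Φ x) = Φ (Z' x) := by
    intro x
    show Z (Φ x) = Φ (Φ.symm (Z (Φ x)))
    rw [LinearEquiv.apply_symm_apply]
  rw [hZ', eq_MZ Z' ?_ ?_ ?_ ?_ x]
  · intro x
    apply Φ.injective
    rw [← h.hA, ← hZ', map_neg, ← hZ', ← h.hA]
    exact congrArg (fun T : End (ZMod 5) W => T (Φ x)) h1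
  · intro x
    apply Φ.injective
    rw [← e2, ← hZ', map_neg, ← hZ', ← e2]
    exact congrArg (fun T : End (ZMod 5) W => T (Φ x)) h2
  · intro x
    apply Φ.injective
    rw [← e3, ← hZ', map_neg, ← hZ', ← e3]
    exact congrArg (fun T : End (ZMod 5) W => T (Φ x)) h3
  · intro x
    apply Φ.injective
    rw [← e4, ← hZ', ← e4, ← hZ', ← e4, ← hZ', ← h.hA, ← h.hA]
    have := congrArg (fun T : End (ZMod 5) W => T (Φ x)) h4
    simp only [pow_succ, pow_zero, one_mul, Module.End.mul_apply, Module.End.one_apply] at this ⊢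
    exact this

end Cfsg.Agent.R10.NGenMod
end
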